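import Cfsg.Agent.Lib.Char.FewSylow.Even
import Mathlib.GroupTheory.Perm.Cycle.Type

/-!
# Brauer's theorem on few Sylow subgroups: an automizer of odd order is impossible

The degree of an exceptional character is then odd, and it vanishes at an involution.
-/

set_option autoImplicit false

namespace CfsgLib.Char.FewSylow

open Cfsg CfsgLib.Blocks CfsgLib.Blocks.DefectOne
open scoped Classical ComplexConjugate

variable {G : Type*} [Group G] [Fintype G] {p : ℕ} [hp : Fact p.Prime] {P : Sylow p G} {D : Frame P}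
  {q t n : ℕ} {s : G}

omit hp in
/-- A character vanishing at an involution has even degree. -/
theorem even_degree_of_zero (χ : IrrCharacter G) {v : G} (hv : orderOf v = 2) (h0 : (χ : G → ℂ) v = 0) :
    Even (charDegree (χ : G → ℂ)) := by
  obtain ⟨m, hm⟩ := IsCharacter.classInner_nat (IsCharacter.restrict (isCharacter_irr χ) (Subgroup.zpowers v))
    (isCharacter_irr (triv (Subgroup.zpowers v)))
  have hcard : Nat.card (Subgroup.zpowers v) = 2 := by rw [Nat.card_zpowers, hv]
  have hne : (1 : Subgroup.zpowers v) ≠ ⟨v, Subgroup.mem_zpowers v⟩ := fun e => by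
    have : v = 1 := (congrArg Subtype.val e).symm
    rw [this, orderOf_one] at hv
    omega
  have hu : (Finset.univ : Finset (Subgroup.zpowers v)) = {1, ⟨v, Subgroup.mem_zpowers v⟩} :=
    (Finset.eq_of_subset_of_card_le (Finset.subset_univ _)
      (by rw [Finset.card_univ, ← Nat.card_eq_fintype_card, hcard, Finset.card_pair hne])).symm
  rw [Cfsg.classInner, hcard, hu, Finset.sum_pair hne] at hm
  simp [triv_apply, h0, irr_one_eq] at hm
  have h : ((charDegree (χ : G → ℂ) : ℕ) : ℂ) = ((2 * m : ℕ) : ℂ) := by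
    push_cast
    linear_combination 2 * hm
  exact ⟨m, by rw [← two_mul]; exact_mod_cast h⟩

namespace PosCase

variable {S : Setting D q t n s} {C : Config D q t n} {η : IrrCharacter G} (T : PosCase S C η)
include T

/-- The degree of an exceptional character is odd when `q` is. -/
theorem odd_e (hq : Odd q) : Odd C.e := by
  obtain ⟨k, hk⟩ := C.even_t S
  have h1 := T.hqw
  rw [T.hnw] at h1
  set w := fix D s η
  have hw : Even w := by
    have h2 : Even (w * (1 + C.Xp.card * t)) := by
      obtain ⟨j, hj⟩ := hq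
      exact ⟨j, by rw [mul_add, mul_one, ← mul_left_comm C.Xp.card w t]; omega⟩
    refine (Nat.even_mul.1 h2).resolve_right ?_
    rw [Nat.not_even_iff_odd]
    exact ⟨C.Xp.card * k, by have h5 := congrArg (C.Xp.card * ·) hk; simp only [mul_add] at h5; omega⟩
  have hf := C.fix_Y S T.mem
  rw [T.hA, mul_one] at hf
  have hf' : p * w = C.e + q := by exact_mod_cast hf
  have h3 : Even (C.e + q) := hf' ▸ hw.mul_left p
  rcases Nat.even_or_odd C.e with h | h
  · exact absurd ((Nat.even_add.1 h3).1 h) (Nat.not_even_iff_odd.2 hq)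
  · exact h

theorem not_odd (hq : Odd q) : False := by
  haveI : Fact (Nat.Prime 2) := ⟨Nat.prime_two⟩
  have h2G : 2 ∣ Nat.card G := by
    rw [S.card_G, ← T.hte]
    exact dvd_mul_of_dvd_right (dvd_mul_of_dvd_left (C.even_t S).two_dvd _) _
  obtain ⟨v, hv⟩ := exists_prime_orderOf_dvd_card' 2 h2G
  have hp5 := C.five_le_p S
  have hreg : ¬ p ∣ orderOf v := fun h => by
    have := Nat.le_of_dvd two_pos (hv ▸ h)
    omega
  have hvH : ∀ h : Subgroup.zpowers s, ¬ IsConj v (h : G) := by
    intro h hc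
    obtain ⟨c, hc⟩ := isConj_iff.1 hc
    have h2 : orderOf (h : G) = 2 := by rw [← hc, ← hv]; exact MulEquiv.orderOf_eq (MulAut.conj c) v
    have h3 := Subgroup.orderOf_dvd_natCard _ h.2
    rw [h2, S.card_H] at h3
    exact Nat.not_even_iff_odd.2 hq (even_iff_two_dvd.2 h3)
  obtain ⟨hXp, hO⟩ := T.values_outside hreg hvH
  have hrel := C.rel η T.mem v hreg
  rw [T.hA, Int.cast_one, one_mul, Finset.sum_congr rfl hXp, Finset.sum_const, nsmul_eq_mul] at hrel
  have horth := regular_eq_sum_irr (G := G) v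
  rw [if_neg (fun e => by rw [e, orderOf_one] at hv; omega), C.sum_split, triv_apply, triv_apply,
    Finset.sum_congr rfl (s₁ := C.Xp) (g := fun _ => ((1 : ℂ) + n * p) * ((t : ℂ) * (η : G → ℂ) v)) fun χ hχ => by
      rw [irr_one_eq, C.deg_p χ hχ, hXp χ hχ]; push_cast; ring,
    Finset.sum_congr rfl (s₁ := C.Xm) (g := fun χ => ((p : ℂ) - 1) * (χ : G → ℂ) v) fun χ hχ => by
      rw [irr_one_eq]
      have hd : ((charDegree (χ : G → ℂ) : ℕ) : ℂ) + 1 = (p : ℂ) := by exact_mod_cast C.deg_m χ hχ
      rw [← hd, add_sub_cancel_right],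
    Finset.sum_congr rfl (s₁ := C.Y) (g := fun _ => (C.e : ℂ) * (η : G → ℂ) v) fun χ hχ => by
      rw [irr_one_eq, C.deg_Y χ hχ, C.agree χ hχ η T.mem v hreg],
    Finset.sum_congr rfl (s₁ := C.O) (g := fun χ => (p : ℂ) * ((fix D s χ : ℂ) * (χ : G → ℂ) v)) fun χ hχ => by
      rw [irr_one_eq, C.fix_O S hχ]; push_cast; ring,
    Finset.sum_const, Finset.sum_const, C.card_Y, nsmul_eq_mul, nsmul_eq_mul, ← Finset.mul_sum, ← Finset.mul_sum]
    at horth
  have hkey : (η : G → ℂ) v * ((C.Xp.card * (1 + n * p) * t + (p - 1) * (C.Xp.card * t + 1) + t * C.e + p * t : ℕ) : ℂ)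
      = 0 := by
    push_cast [Nat.cast_sub hp.out.one_le]
    linear_combination horth + ((p : ℂ) - 1) * hrel - (p : ℂ) * hO
  have hpos : 0 < C.Xp.card * (1 + n * p) * t + (p - 1) * (C.Xp.card * t + 1) + t * C.e + p * t := by
    have := Nat.mul_pos hp.out.pos (show 0 < t by have := C.two_le_t; omega)
    omega
  have h0 : (η : G → ℂ) v = 0 := (mul_eq_zero.1 hkey).resolve_right (Nat.cast_ne_zero.2 hpos.ne')
  exact Nat.not_even_iff_odd.2 (T.odd_e hq) (C.deg_Y η T.mem ▸ even_degree_of_zero η hv h0)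

end PosCase

end CfsgLib.Char.FewSylow
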