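import Cfsg.Agent.Lib.Char.FewSylow.Basic
import Cfsg.Agent.Lib.Perm.ZGroup.PSL

/-!
# Brauer's theorem on few Sylow subgroups: recognising `PSL(2, p)`

When there are `p + 1` Sylow subgroups and two classes of elements of order `p` the group is a
Zassenhaus group on the cosets of the normalizer.
-/

set_option autoImplicit false

open scoped Classical

namespace CfsgLib.Char.FewSylow

open Cfsg CfsgLib.Blocks CfsgLib.Blocks.DefectOne

variable {G : Type*} [Group G] [Fintype G] {p : ℕ} [hp : Fact p.Prime] {P : Sylow p G} {D : Frame P}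
  {q t n : ℕ} {s : G}

theorem Setting.psl (S : Setting D q t n s) (ht : t = 2) (hn : n = 1) :
    ∃ (F : Type) (_ : Field F) (_ : Fintype F), Fintype.card F = p ∧
      Nonempty (G ≃* Matrix.ProjectiveSpecialLinearGroup (Fin 2) F) := by
  have hqt := S.hqt
  have hq2 := S.two_le_q
  rw [ht] at hqt
  set Ω := G ⧸ nrm P
  have hΩ : Nat.card Ω = p + 1 := by
    show (nrm P).index = p + 1
    rw [S.idx, hn, one_mul, add_comm]
  set a : Ω := ((1 : G) : G ⧸ nrm P) with ha
  have hstab : MulAction.stabilizer G a = nrm P := MulAction.stabilizer_quotient _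
  have hfixa : ∀ g ∈ nrm P, g • a = a := fun g hg => MulAction.mem_stabilizer_iff.1 (by rw [hstab]; exact hg)
  have hPa : ∀ u ∈ (P : Subgroup G), u • a = a := fun u hu => hfixa u (Subgroup.le_normalizer hu)
  have hord : ∀ u ∈ (P : Subgroup G), u ≠ 1 → orderOf u = p := fun u hu h1 => by
    have h := Subgroup.orderOf_dvd_natCard _ hu
    rw [show Nat.card (P : Subgroup G) = p from D.card_P] at h
    exact ((Nat.dvd_prime hp.out).1 h).resolve_left (mt orderOf_eq_one_iff.1 h1)
  have hPfree : ∀ u ∈ (P : Subgroup G), u ≠ 1 → ∀ y : Ω, u • y = y → y = a := by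
    intro u hu hu1 y hy
    obtain ⟨g, rfl⟩ := QuotientGroup.mk_surjective y
    have hmem : g⁻¹ * u * g ∈ nrm P := by
      have h := QuotientGroup.eq.1 (hy.symm : ((g : G) : G ⧸ nrm P) = ((u * g : G) : G ⧸ nrm P))
      rw [mul_assoc]
      exact h
    have hconj : orderOf (g⁻¹ * u * g) = p := by
      rw [← hord u hu hu1]
      have := MulEquiv.orderOf_eq (MulAut.conj g⁻¹) u
      rwa [MulAut.conj_apply, inv_inv] at this
    have hmP : g⁻¹ * u * g ∈ (P : Subgroup G) := by
      refine (SelfCent.act_eq_one_iff S.hK ⟨_, hmem⟩).1 ?_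
      have h1 : orderOf (D.act ⟨_, hmem⟩) ∣ p :=
        (orderOf_map_dvd D.act _).trans (dvd_of_eq ((Subgroup.orderOf_mk _ _).trans hconj))
      refine orderOf_eq_one_iff.1 (((Nat.dvd_prime hp.out).1 h1).resolve_right fun e => ?_)
      have h2 : orderOf (D.act ⟨_, hmem⟩) ∣ q := S.hq ▸ Subgroup.orderOf_dvd_natCard D.act.range ⟨_, rfl⟩
      rw [e] at h2
      have := Nat.le_of_dvd (by omega) h2
      have := S.q_lt
      omega
    have hz : Subgroup.zpowers (g⁻¹ * u * g) = (P : Subgroup G) :=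
      PrimeOrder.zpowers_eq P D.card_P hmP (fun e => by rw [e, orderOf_one] at hconj; exact hp.out.one_lt.ne hconj)
    have hgN : g ∈ nrm P := by
      refine Subgroup.mem_normalizer_fintype fun k hk => ?_
      rw [← hz] at hk
      obtain ⟨i, rfl⟩ := Subgroup.mem_zpowers_iff.1 hk
      rw [← conj_zpow, show g * (g⁻¹ * u * g) * g⁻¹ = u by group]
      exact zpow_mem hu i
    exact QuotientGroup.eq.2 (by rw [mul_one]; exact inv_mem hgN)
  -- `P` is regular away from `a`
  have hreg : ∀ y z : Ω, y ≠ a → z ≠ a → ∃! u : (P : Subgroup G), (u : G) • y = z := by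
    intro y z hy hz
    have hinj : Function.Injective fun u : (P : Subgroup G) => (u : G) • y := fun u v e => by
      by_contra hne
      refine hy (hPfree _ (v⁻¹ * u).2 (fun e' => hne (inv_mul_eq_one.1 (Subtype.ext e')).symm) y ?_)
      rw [Subgroup.coe_mul, Subgroup.coe_inv, mul_smul, show (u : G) • y = (v : G) • y from e, inv_smul_smul]
    have hne' : ∀ u : (P : Subgroup G), (u : G) • y ∈ (Finset.univ : Finset Ω).erase a := fun u => by
      refine Finset.mem_erase.2 ⟨fun e => hy ?_, Finset.mem_univ _⟩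
      exact MulAction.injective (u : G) (e.trans (hPa _ u.2).symm)
    have himg : (Finset.univ : Finset (P : Subgroup G)).image (fun u : (P : Subgroup G) => (u : G) • y)
        = (Finset.univ : Finset Ω).erase a := by
      refine Finset.eq_of_subset_of_card_le (Finset.image_subset_iff.2 fun u _ => hne' u) ?_
      rw [Finset.card_image_of_injective _ hinj, Finset.card_erase_of_mem (Finset.mem_univ _), Finset.card_univ,
        Finset.card_univ, ← Nat.card_eq_fintype_card, ← Nat.card_eq_fintype_card, hΩ,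
        show Nat.card (P : Subgroup G) = p from D.card_P, Nat.add_sub_cancel]
    have hzm : z ∈ (Finset.univ : Finset Ω).erase a := Finset.mem_erase.2 ⟨hz, Finset.mem_univ _⟩
    rw [← himg] at hzm
    obtain ⟨u, -, hu⟩ := Finset.mem_image.1 hzm
    exact ⟨u, hu, fun v hv => hinj (hv.trans hu.symm)⟩
  obtain ⟨b, hb⟩ : ∃ b : Ω, a ≠ b := by
    haveI : Nontrivial Ω := Finite.one_lt_card_iff_nontrivial.1 (by rw [hΩ]; have := hp.out.two_le; omega)
    obtain ⟨b, hb⟩ := exists_ne a
    exact ⟨b, hb.symm⟩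
  have h2t : MulAction.IsMultiplyPretransitive G Ω 2 := by
    rw [MulAction.is_two_pretransitive_iff]
    intro x y z w hxy hzw
    obtain ⟨g₁, hg₁⟩ := MulAction.exists_smul_eq G x a
    obtain ⟨g₂, hg₂⟩ := MulAction.exists_smul_eq G z a
    obtain ⟨u, hu, -⟩ := hreg (g₁ • y) (g₂ • w)
      (fun e => hxy (MulAction.injective g₁ (hg₁.trans e.symm)))
      (fun e => hzw (MulAction.injective g₂ (hg₂.trans e.symm)))
    refine ⟨g₂⁻¹ * (u : G) * g₁, ?_, ?_⟩
    · rw [mul_smul, mul_smul, hg₁, hPa _ u.2, inv_smul_eq_iff, hg₂]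
    · rw [mul_smul, mul_smul, hu, inv_smul_smul]
  have hfree : ∀ g : G, ∀ x y z : Ω, x ≠ y → y ≠ z → x ≠ z → g • x = x → g • y = y → g • z = z → g = 1 := by
    intro g x y z hxy hyz hxz hx hy hz
    obtain ⟨k, hk⟩ := MulAction.exists_smul_eq G x a
    set m := k * g * k⁻¹ with hm
    have hfix : ∀ v : Ω, g • v = v → m • (k • v) = k • v := fun v hv => by
      rw [hm, mul_smul, mul_smul, inv_smul_smul, hv]
    have hma : m ∈ nrm P := by rw [← hstab, MulAction.mem_stabilizer_iff, ← hk]; exact hfix x hx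
    have hy' : k • y ≠ a := fun e => hxy (MulAction.injective k (hk.trans e.symm))
    have hz' : k • z ≠ a := fun e => hxz (MulAction.injective k (hk.trans e.symm))
    obtain ⟨u, hu, huniq⟩ := hreg (k • y) (k • z) hy' hz'
    have hmem : m * (u : G) * m⁻¹ ∈ (P : Subgroup G) := (Subgroup.mem_normalizer_iff.1 hma _).1 u.2
    have h1 : (m * (u : G) * m⁻¹) • (k • y) = k • z := by
      rw [mul_smul, mul_smul, inv_smul_eq_iff.2 (hfix y hy).symm, hu, hfix z hz]
    have h2 : m * (u : G) * m⁻¹ = u := congrArg Subtype.val (huniq ⟨_, hmem⟩ h1)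
    have hu1 : (u : G) ≠ 1 := fun e => hyz (MulAction.injective k (by show k • y = k • z; rw [← hu, e, one_smul]))
    have hmP : m ∈ (P : Subgroup G) := by
      obtain ⟨i, hi⟩ := (isOfFinOrder_of_finite D.x).mem_powers_iff_mem_zpowers.2
        (show (u : G) ∈ Subgroup.zpowers D.x by rw [D.zp]; exact u.2)
      have hi' : D.x ^ (i : ZMod p).val = (u : G) := by rw [D.xpow_eq]; exact hi
      refine SelfCent.mem_of_commute S.hK (a := (i : ZMod p)) (fun e => hu1 ?_) ?_
      · rw [← hi', e, ZMod.val_zero, pow_zero]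
      · rw [hi']; exact mul_inv_eq_iff_eq_mul.1 h2
    by_contra hg1
    refine hy' (hPfree m hmP (fun e => hg1 ?_) _ (hfix y hy))
    rw [hm] at e
    exact conj_eq_one_iff.1 e
  have h3 : ∀ v : Ω, ∃ x y : Ω, v ≠ x ∧ v ≠ y ∧ x ≠ y := by
    intro v
    have hlt : 1 < ((Finset.univ : Finset Ω).erase v).card := by
      rw [Finset.card_erase_of_mem (Finset.mem_univ _), Finset.card_univ, ← Nat.card_eq_fintype_card, hΩ]
      have := hp.out.two_le
      omega
    obtain ⟨x, hx, y, hy, hxy⟩ := Finset.one_lt_card.1 hlt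
    exact ⟨x, y, (Finset.ne_of_mem_erase hx).symm, (Finset.ne_of_mem_erase hy).symm, hxy⟩
  have hfaith : FaithfulSMul G Ω := ⟨fun {g₁ g₂} hgg => by
    obtain ⟨x, y, hax, hay, hxy⟩ := h3 a
    have hf : ∀ v : Ω, (g₂⁻¹ * g₁) • v = v := fun v => by rw [mul_smul, hgg v, inv_smul_smul]
    exact (inv_mul_eq_one.1 (hfree _ a x y hax hxy hay (hf a) (hf x) (hf y))).symm⟩
  have htwo : ∃ g : G, g ≠ 1 ∧ ∃ x y : Ω, x ≠ y ∧ g • x = x ∧ g • y = y := by
    obtain ⟨hsN, -⟩ := S.s_mem
    have hsb : s • b ≠ a := fun e => hb (MulAction.injective s ((hfixa s hsN).trans e.symm))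
    obtain ⟨u, hu, -⟩ := hreg b (s • b) hb.symm hsb
    refine ⟨(u : G)⁻¹ * s, fun e => ?_, a, b, hb, ?_, ?_⟩
    · have hsP : s ∈ (P : Subgroup G) := inv_mul_eq_one.1 e ▸ u.2
      have h := S.eq_one_of_mem (Subgroup.mem_zpowers s) hsP
      have h' := S.ord_s
      rw [h, orderOf_one] at h'
      omega
    · rw [mul_smul, hfixa s hsN, inv_smul_eq_iff, hPa _ u.2]
    · rw [mul_smul, inv_smul_eq_iff, hu]
  have hZ : Cfsg.IsZassenhausGroup G Ω := by
    refine ⟨hfaith, h2t, hfree, htwo, fun N hNn hNt => ⟨a, fun hbot => ?_⟩⟩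
    -- a regular normal subgroup contradicts perfection
    let f : nrm P →* G ⧸ N := (QuotientGroup.mk' N).comp (nrm P).subtype
    have hinjf : Function.Injective f := by
      rw [injective_iff_map_eq_one]
      intro g hg
      have hgN : (g : G) ∈ N := (QuotientGroup.eq_one_iff _).1 hg
      have hm : (⟨g, hgN⟩ : N) ∈ MulAction.stabilizer N a := hfixa g g.2
      exact Subtype.ext (congrArg Subtype.val (Subgroup.mem_bot.1 (le_of_eq hbot hm)) :)
    have hsurjf : Function.Surjective f := by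
      intro x
      obtain ⟨g, rfl⟩ := QuotientGroup.mk_surjective x
      obtain ⟨⟨k, hk⟩, hka⟩ := hNt.exists_smul_eq (g • a) a
      refine ⟨⟨k * g, ?_⟩, ?_⟩
      · rw [← hstab, MulAction.mem_stabilizer_iff, mul_smul]; exact hka
      · show ((k * g : G) : G ⧸ N) = (g : G ⧸ N)
        rw [QuotientGroup.mk_mul, (QuotientGroup.eq_one_iff k).2 hk, one_mul]
    let e := MulEquiv.ofBijective f ⟨hinjf, hsurjf⟩
    let φ : G →* (ZMod p)ˣ := D.act.comp (e.symm.toMonoidHom.comp (QuotientGroup.mk' N))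
    have hker : φ.ker = ⊤ := eq_top_iff.2 (S.perf ▸ Abelianization.commutator_subset_ker φ)
    obtain ⟨hsN, hso⟩ := S.s_mem
    have h1 : φ s = D.act ⟨s, hsN⟩ := by
      show D.act (e.symm (QuotientGroup.mk' N s)) = _
      rw [show QuotientGroup.mk' N s = e ⟨s, hsN⟩ from rfl, MulEquiv.symm_apply_apply]
    have h2 : φ s = 1 := MonoidHom.mem_ker.1 (hker ▸ Subgroup.mem_top s)
    rw [← h1, h2, orderOf_one] at hso
    omega
  let S' : CfsgLib.Perm.ZGroup.Setup G Ω a b :=
    { hZ := hZ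
      hab := hb
      F := (P : Subgroup G)
      hle := fun x hx => hPa x hx
      hnorm := by rw [hstab]; exact Subgroup.normal_in_normalizer
      hreg := hreg }
  have hFab : IsMulCommutative S'.F := ⟨⟨fun x y => Subtype.ext (by
    obtain ⟨i, hi⟩ := Subgroup.mem_zpowers_iff.1 (show (x : G) ∈ Subgroup.zpowers D.x by rw [D.zp]; exact x.2)
    obtain ⟨j, hj⟩ := Subgroup.mem_zpowers_iff.1 (show (y : G) ∈ Subgroup.zpowers D.x by rw [D.zp]; exact y.2)
    rw [Subgroup.coe_mul, Subgroup.coe_mul, ← hi, ← hj, ← zpow_add, ← zpow_add, add_comm])⟩⟩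
  have hFc : Nat.card S'.F = p := D.card_P
  have hHc : Nat.card S'.H = q := by
    have h1 := S'.card_stab
    rw [hstab, S.card_nrm, hFc] at h1
    exact (Nat.eq_of_mul_eq_mul_left hp.out.pos h1).symm
  obtain ⟨p', f, K, iK, iKt, -, -, hKc, hΩc, hiso⟩ := CfsgLib.Perm.ZGroup.psl_of_half S' hFab (by
    rw [hHc, hFc]; omega)
  refine ⟨K, iK, iKt, ?_, hiso⟩
  rw [hKc]
  rw [Nat.card_eq_fintype_card, hΩc] at hΩ
  omega

end CfsgLib.Char.FewSylow
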