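import Cfsg.Agent.Lib.Char.FewSylow.Even
import Cfsg.Agent.Lib.Involution.RecognisePSL2

/-!
# Brauer's theorem on few Sylow subgroups: recognising `SL(2, 2^m)`
-/

set_option autoImplicit false

namespace CfsgLib.Char.FewSylow

open Cfsg CfsgLib.Blocks CfsgLib.Blocks.DefectOne
open scoped Classical ComplexConjugate

variable {G : Type*} [Group G] [Fintype G] {p : ℕ} [hp : Fact p.Prime] {P : Sylow p G} {D : Frame P}
  {q t n : ℕ} {s : G}

namespace PosCase

variable {S : Setting D q t n s} {C : Config D q t n} {η : IrrCharacter G} (T : PosCase S C η)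
include T

theorem of_two (hq : q = 2) : ∃ (m : ℕ) (F : Type) (_ : Field F) (_ : Fintype F),
    Fintype.card F = 2 ^ m ∧ p = 2 ^ m + 1 ∧ Nonempty (G ≃* Matrix.ProjectiveSpecialLinearGroup (Fin 2) F) := by
  obtain ⟨hw, hnt, y, hy1, hy2, hCy, -⟩ := T.even_data (by rw [hq]; exact even_two)
  have hqw := T.hqw
  rw [hw] at hqw
  have ha : C.Xp.card = 0 := by
    by_contra hne
    have := Nat.mul_le_mul (Nat.one_le_iff_ne_zero.2 hne) (show 1 ≤ n + 1 by omega)
    omega
  have hb : C.Xm.card = 1 := by rw [T.hbw, hw, ha, zero_mul, add_zero]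
  obtain ⟨θ, hθ⟩ := Finset.card_eq_one.1 hb
  have hXp : C.Xp = ∅ := Finset.card_eq_zero.1 ha
  have hθm : θ ∈ C.Xm := hθ ▸ Finset.mem_singleton_self θ
  have hp5 := C.five_le_p S
  have ht2 := C.two_le_t
  have hp2t : p = 2 * t + 1 := by
    have := S.hqt
    rw [hq] at this
    omega
  have hyy : (y : G) * y = 1 := congrArg Subtype.val hy2
  have hy0 : (y : G) ≠ 1 := fun e => hy1 (Subtype.ext e)
  have hCy' : Nat.card (Subgroup.centralizer ({(y : G)} : Set G)) = p - 1 := by rw [hCy, hq]; omega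
  have hθ1 : (θ : G → ℂ) 1 = (p : ℂ) - 1 := by
    have hd : ((charDegree (θ : G → ℂ) : ℕ) : ℂ) + 1 = (p : ℂ) := by exact_mod_cast C.deg_m θ hθm
    rw [irr_one_eq]
    linear_combination hd
  have hηy : phi D s η y = -1 := by
    have h := T.sum_rel y
    rw [if_neg hy1, hXp, Finset.sum_empty, add_zero] at h
    linear_combination h
  -- the value of `θ` away from the class of `y`
  have htheta : ∀ g : G, g ≠ 1 → ¬ p ∣ orderOf g → ¬ IsConj g (y : G) → (θ : G → ℂ) g = 1 := by
    intro g hg1 hgr hgy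
    have h1 := CfsgLib.Char.sum_irr_mul_conj g (y : G)
    rw [if_neg hgy] at h1
    have h2 : ∑ χ : IrrCharacter G, (χ : G → ℂ) 1 * (χ : G → ℂ) g = 0 := by
      rw [regular_eq_sum_irr, if_neg hg1]
    have h3 := C.rel η T.mem g hgr
    rw [hXp, hθ, Finset.sum_empty, Finset.sum_singleton, T.hA, Int.cast_one, one_mul] at h3
    rw [C.sum_split, triv_apply, triv_apply, map_one, hXp, Finset.sum_empty, hθ, Finset.sum_singleton,
      ← S.phi_apply θ hy1, C.phi_m S hθm, map_zero, mul_zero,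
      Finset.sum_congr rfl (s₁ := C.Y) (g := fun _ => -(η : G → ℂ) g) fun χ hχ => by
        rw [C.agree χ hχ η T.mem g hgr, ← S.phi_apply χ hy1, C.phi_Y_eq S hχ T.mem, hηy, map_neg, map_one,
          mul_neg, mul_one],
      Finset.sum_congr rfl (s₁ := C.O) (g := fun χ => (fix D s χ : ℂ) * (χ : G → ℂ) g) fun χ hχ => by
        rw [← S.phi_apply χ hy1, T.phi_O hχ, map_natCast, mul_comm],
      Finset.sum_const, C.card_Y, nsmul_eq_mul] at h1
    rw [C.sum_split, triv_apply, triv_apply, hXp, Finset.sum_empty, hθ, Finset.sum_singleton, hθ1,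
      Finset.sum_congr rfl (s₁ := C.Y) (g := fun _ => (C.e : ℂ) * (η : G → ℂ) g) fun χ hχ => by
        rw [C.agree χ hχ η T.mem g hgr, irr_one_eq χ, C.deg_Y χ hχ],
      Finset.sum_congr rfl (s₁ := C.O) (g := fun χ => (p : ℂ) * ((fix D s χ : ℂ) * (χ : G → ℂ) g)) fun χ hχ => by
        rw [irr_one_eq χ, C.fix_O S hχ]; push_cast; ring,
      Finset.sum_const, C.card_Y, nsmul_eq_mul, ← Finset.mul_sum] at h2
    have he : (C.e : ℂ) = (p : ℂ) - 2 := by
      have hf := C.fix_Y S T.mem
      rw [T.hA, hw] at hf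
      have h' : ((C.e : ℤ) : ℂ) = (((p : ℤ) - 2 : ℤ) : ℂ) := by rw [show (C.e : ℤ) = (p : ℤ) - 2 by omega]
      push_cast at h'
      exact h'
    rw [he] at h2
    have hK : ((p : ℂ) - 1 + t * ((p : ℂ) - 2) + p * t) * (η : G → ℂ) g = 0 := by
      linear_combination h2 - (p : ℂ) * h1 + ((p : ℂ) - 1) * h3
    have hne : ((p : ℂ) - 1 + t * ((p : ℂ) - 2) + p * t) ≠ 0 := by
      have e : (((p : ℤ) - 1 + t * ((p : ℤ) - 2) + p * t : ℤ) : ℂ) = (p : ℂ) - 1 + t * ((p : ℂ) - 2) + p * t := by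
        push_cast; ring
      rw [← e, Int.cast_ne_zero]
      have h5 : (5 : ℤ) ≤ p := by exact_mod_cast hp5
      have h6 : (0 : ℤ) ≤ t * ((p : ℤ) - 2) := mul_nonneg (by omega) (by omega)
      have h7 : (0 : ℤ) ≤ (p : ℤ) * t := by positivity
      omega
    have hη0 := (mul_eq_zero.1 hK).resolve_left hne
    linear_combination hη0 - h3
  -- every element centralizing `y` is conjugate to `y`
  set Cy := Subgroup.centralizer ({(y : G)} : Set G) with hCydef
  have hcl : ∀ g ∈ Cy, g ≠ 1 → IsConj g (y : G) := by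
    obtain ⟨m, hm⟩ := IsCharacter.classInner_nat (IsCharacter.restrict (isCharacter_irr θ) Cy)
      (isCharacter_irr (triv Cy))
    set N1 := Finset.univ.filter fun g : Cy => g ≠ 1 ∧ ¬ IsConj (g : G) (y : G) with hN1
    have hval : ∀ g : Cy, (θ : G → ℂ) (g : G) =
        (if g = 1 then (p : ℂ) - 1 else 0) + if g ≠ 1 ∧ ¬ IsConj (g : G) (y : G) then 1 else 0 := by
      intro g
      by_cases h1 : g = 1
      · rw [if_pos h1, if_neg (fun h => h.1 h1), h1, OneMemClass.coe_one, hθ1, add_zero]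
      · rw [if_neg h1, zero_add]
        by_cases h2 : IsConj (g : G) (y : G)
        · rw [if_neg (fun h => h.2 h2), IsClassFunction.apply_eq_of_isConj (IsIrrCharacter.isClassFunction θ.2) h2,
            ← S.phi_apply θ hy1, C.phi_m S hθm]
        · rw [if_pos ⟨h1, h2⟩]
          exact htheta g (fun e => h1 (Subtype.ext e))
            (S.regular_of_commute y.2 hy0 (Subgroup.mem_centralizer_singleton_iff.1 g.2)) h2
    have hsum : ((p - 1 + N1.card : ℕ) : ℂ) = (((p - 1) * m : ℕ) : ℂ) := by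
      rw [Cfsg.classInner, inv_mul_eq_iff_eq_mul₀ (Nat.cast_ne_zero.2 Nat.card_pos.ne'), hCy'] at hm
      simp only [triv_apply, map_one, mul_one, hval, Finset.sum_add_distrib, Finset.sum_ite_eq', Finset.mem_univ,
        if_true, Finset.sum_boole] at hm
      rw [← hN1] at hm
      push_cast [Nat.cast_sub hp.out.one_le] at hm ⊢
      exact hm
    have hsum' : p - 1 + N1.card = (p - 1) * m := by exact_mod_cast hsum
    have hlt : N1.card < p - 1 := by
      rw [← hCy', Nat.card_eq_fintype_card, ← Finset.card_univ]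
      refine Finset.card_lt_card (Finset.filter_ssubset.2 ⟨1, Finset.mem_univ _, fun h => h.1 rfl⟩)
    have h0 : N1.card = 0 := by
      rcases m with _ | _ | m
      · omega
      · omega
      · have : (p - 1) * 2 ≤ (p - 1) * (m + 1 + 1) := Nat.mul_le_mul_left _ (by omega)
        omega
    intro g hg hg1
    by_contra hc
    have : (⟨g, hg⟩ : Cy) ∈ N1 :=
      Finset.mem_filter.2 ⟨Finset.mem_univ _, fun e => hg1 (congrArg Subtype.val e), hc⟩
    rw [Finset.card_eq_zero.1 h0] at this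
    exact Finset.notMem_empty _ this
  have hsq : ∀ g ∈ Cy, g * g = 1 := fun g hg => by
    by_cases h1 : g = 1
    · rw [h1, one_mul]
    obtain ⟨c, hc⟩ := isConj_iff.1 (hcl g hg h1)
    have e : g = c⁻¹ * (y : G) * c := by rw [← hc]; group
    rw [e, show c⁻¹ * (y : G) * c * (c⁻¹ * (y : G) * c) = c⁻¹ * ((y : G) * y) * c by group, hyy]; group
  haveI : Fact (Nat.Prime 2) := ⟨Nat.prime_two⟩
  have hpg : IsPGroup 2 Cy := fun g => ⟨1, Subtype.ext (by
    rw [pow_one, Subgroup.coe_pow, sq]; exact hsq g g.2)⟩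
  obtain ⟨j, hj⟩ := IsPGroup.iff_card.1 hpg
  have hpj : p = 2 ^ j + 1 := by rw [← hj, hCy']; omega
  have hcomm : ∀ a ∈ Cy, ∀ b ∈ Cy, a * b = b * a := fun a ha b hb => by
    have hi : ∀ c ∈ Cy, c⁻¹ = c := fun c hc => inv_eq_of_mul_eq_one_right (hsq c hc)
    rw [← hi _ (mul_mem ha hb), mul_inv_rev, hi a ha, hi b hb]
  -- all involutions are conjugate to `y`
  have hinv : ∀ z : G, orderOf z = 2 → IsConj z (y : G) := by
    intro z hz
    by_contra hc
    have hz1 : z ≠ 1 := fun e => by rw [e, orderOf_one] at hz; omega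
    have hzr : ¬ p ∣ orderOf z := fun h => by
      rw [hz] at h
      have := (Nat.prime_dvd_prime_iff_eq hp.out Nat.prime_two).1 h
      omega
    have hθz := htheta z hz1 hzr hc
    obtain ⟨m, hm⟩ := IsCharacter.classInner_nat (IsCharacter.restrict (isCharacter_irr θ) (Subgroup.zpowers z))
      (isCharacter_irr (triv (Subgroup.zpowers z)))
    have hcard : Nat.card (Subgroup.zpowers z) = 2 := by rw [Nat.card_zpowers, hz]
    set z' : Subgroup.zpowers z := ⟨z, Subgroup.mem_zpowers z⟩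
    have hne : (1 : Subgroup.zpowers z) ≠ z' := fun e => hz1 (congrArg Subtype.val e).symm
    have huniv : (Finset.univ : Finset (Subgroup.zpowers z)) = {1, z'} :=
      (Finset.eq_of_subset_of_card_le (Finset.subset_univ _) (by
        rw [Finset.card_univ, ← Nat.card_eq_fintype_card, hcard, Finset.card_pair hne])).symm
    rw [Cfsg.classInner, huniv, Finset.sum_pair hne, hcard,
      inv_mul_eq_iff_eq_mul₀ (by norm_num)] at hm
    simp only [triv_apply, map_one, mul_one, OneMemClass.coe_one, hθ1] at hm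
    rw [show (θ : G → ℂ) (z' : G) = 1 from hθz] at hm
    have : p = 2 * m := by
      have h' : ((p : ℕ) : ℂ) = ((2 * m : ℕ) : ℂ) := by push_cast at hm ⊢; linear_combination hm
      exact_mod_cast h'
    omega
  -- the Sylow subgroup
  have hG : Nat.card G = (p - 1) * (p * (p - 2)) := by
    have he : C.e = p - 2 := by
      have hf := C.fix_Y S T.mem
      rw [T.hA, hw] at hf
      omega
    rw [S.card_G, ← T.hte, he, hq, show p - 1 = 2 * t by omega]
    ring
  have hodd : ¬ 2 ∣ Cy.index := fun h => by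
    have h' := Cy.card_mul_index
    rw [hCy', hG] at h'
    rw [Nat.eq_of_mul_eq_mul_left (by omega) h'] at h
    rcases (Nat.prime_two.dvd_mul).1 h with h | h <;> omega
  obtain ⟨T2, hT2⟩ : ∃ T2 : Sylow 2 G, (T2 : Subgroup G) = Cy := ⟨hpg.toSylow hodd, rfl⟩
  have hnc : ¬ IsCyclic (T2 : Subgroup G) := fun hcy => by
    rw [hT2] at hcy
    obtain ⟨g, hg⟩ := hcy.exists_generator
    have h := orderOf_eq_card_of_forall_mem_zpowers hg
    rw [hCy'] at h
    have h2 : orderOf g ∣ 2 := orderOf_dvd_of_pow_eq_one (Subtype.ext (by rw [Subgroup.coe_pow, sq]; exact hsq g g.2))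
    have := Nat.le_of_dvd two_pos h2
    omega
  have hnn : ¬ (T2 : Subgroup G).Normal := fun hn => by
    rw [hT2] at hn
    have hy : (y : G) ∈ Cy := Subgroup.mem_centralizer_singleton_iff.2 rfl
    have hle : Nat.card {g : G // IsConj g (y : G)} ≤ Nat.card Cy := by
      refine Nat.card_le_card_of_injective (fun g => (⟨g.1, ?_⟩ : Cy)) fun a b e => Subtype.ext (congrArg (Subtype.val) e :)
      obtain ⟨c, hc⟩ := isConj_iff.1 g.2.symm
      rw [← hc]
      exact hn.conj_mem _ hy c
    have h := CfsgLib.Char.card_conjugates_mul (y : G)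
    rw [← hCydef, hCy', hG, mul_comm] at h
    rw [hCy', Nat.eq_of_mul_eq_mul_left (by omega) h] at hle
    have : p * 3 ≤ p * (p - 2) := Nat.mul_le_mul_left p (by omega)
    omega
  obtain ⟨F, iF, iFt, hF, hiso⟩ := CfsgLib.Involution.RecognisePSL2.nonempty_mulEquiv (T := T2) ⟨hnc, hnn, fun z hz => by
    obtain ⟨c, hc⟩ := isConj_iff.1 (hinv z hz)
    have hmem : ∀ g ∈ Subgroup.centralizer ({z} : Set G), c * g * c⁻¹ ∈ Cy := fun g hg => by
      rw [hCydef, Subgroup.mem_centralizer_singleton_iff, ← hc,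
        show c * g * c⁻¹ * (c * z * c⁻¹) = c * (g * z) * c⁻¹ by group, Subgroup.mem_centralizer_singleton_iff.1 hg]
      group
    refine ⟨⟨⟨fun a b => Subtype.ext ?_⟩⟩, fun g hg => ?_⟩
    · have h := hcomm _ (hmem _ a.2) _ (hmem _ b.2)
      rw [show c * (a : G) * c⁻¹ * (c * (b : G) * c⁻¹) = c * ((a : G) * b) * c⁻¹ by group,
        show c * (b : G) * c⁻¹ * (c * (a : G) * c⁻¹) = c * ((b : G) * a) * c⁻¹ by group] at h
      exact mul_left_cancel (mul_right_cancel h)
    · have h := hsq _ (hmem g hg)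
      rw [show c * g * c⁻¹ * (c * g * c⁻¹) = c * (g * g) * c⁻¹ by group] at h
      rw [sq]
      exact conj_eq_one_iff.1 h⟩
  refine ⟨j, F, iF, iFt, ?_, hpj, hiso⟩
  rw [hF, show Nat.card T2 = Nat.card (T2 : Subgroup G) from rfl, hT2]
  exact hj

end PosCase

end CfsgLib.Char.FewSylow
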