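import Cfsg.Agent.Lib.Char.FewSylow.Core
import Cfsg.Agent.Lib.Char.FewSylow.Odd
import Cfsg.Agent.Lib.Char.FewSylow.SL
import Cfsg.Agent.Lib.Char.FewSylow.PSL

/-!
# Brauer's theorem on a self-centralizing element of prime order with few Sylow subgroups
-/

set_option autoImplicit false

namespace CfsgLib.Char.FewSylow

open Cfsg CfsgLib.Blocks CfsgLib.Blocks.DefectOne

theorem classification_of_notRep {G : Type*} [Group G] [Fintype G] (hperf : commutator G = ⊤) {p : ℕ} [Fact p.Prime]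
    {P : Sylow p G} (D : Frame P) (hK : D.K0 = ⊥) {n : ℕ} (hidx : (nrm P).index = 1 + n * p)
    (hrep : NotRep (p : ℤ) (n : ℤ)) :
    (∃ (F : Type) (_ : Field F) (_ : Fintype F), Fintype.card F = p ∧ 3 < p ∧
        Nonempty (G ≃* Matrix.ProjectiveSpecialLinearGroup (Fin 2) F)) ∨
      (∃ (m : ℕ) (F : Type) (_ : Field F) (_ : Fintype F), Fintype.card F = 2 ^ m ∧ p = 2 ^ m + 1 ∧ 3 < p ∧
        Nonempty (G ≃* Matrix.ProjectiveSpecialLinearGroup (Fin 2) F)) := by
  obtain ⟨q, t, s, S⟩ := exists_setting D hK hperf hidx hrep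
  obtain ⟨C⟩ := exists_config S
  have hp5 := C.five_le_p S
  have hcases : (t = 2 ∧ n = 1) ∨ (∃ (m : ℕ) (F : Type) (_ : Field F) (_ : Fintype F), Fintype.card F = 2 ^ m ∧
      p = 2 ^ m + 1 ∧ Nonempty (G ≃* Matrix.ProjectiveSpecialLinearGroup (Fin 2) F)) := by
    rcases C.sgn_A with hA | hA
    · obtain ⟨η, T⟩ := exists_posCase S C hA
      rcases Nat.even_or_odd q with hq | hq
      · by_cases h2 : q = 2
        · exact Or.inr (T.of_two h2)
        · exact Or.inl (T.of_even hq h2)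
      · exact (T.not_odd hq).elim
    · exact Or.inl (C.of_neg S hA)
  rcases hcases with ⟨ht, hn1⟩ | ⟨m, F, i1, i2, h1, h2, h3⟩
  · obtain ⟨F, i1, i2, h1, h3⟩ := S.psl ht hn1
    exact Or.inl ⟨F, i1, i2, h1, by omega, h3⟩
  · exact Or.inr ⟨m, F, i1, i2, h1, h2, by omega, h3⟩

theorem notRep_of_few {G : Type*} [Group G] [Finite G] {p : ℕ} [hp : Fact p.Prime] {P : Sylow p G} {n : ℕ}
    (hidx : (Subgroup.normalizer ((P : Subgroup G) : Set G)).index = 1 + n * p)
    (hn : 2 * Nat.card (Sylow p G) < (p + 1) * (p + 2)) : NotRep (p : ℤ) (n : ℤ) := by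
  refine NotRep.of_few (by exact_mod_cast hp.out.pos) ?_
  rw [P.card_eq_index_normalizer.trans hidx] at hn
  by_contra hc
  have h1 : p + 3 ≤ 2 * n := by omega
  have h2 : (p + 3) * p ≤ 2 * n * p := Nat.mul_le_mul_right p h1
  nlinarith

theorem classification {G : Type*} [Group G] [Finite G] (hperf : commutator G = ⊤) (p : ℕ) [Fact p.Prime] (z : G)
    (hz : orderOf z = p) (hC : Subgroup.centralizer ({z} : Set G) = Subgroup.zpowers z)
    (hn : 2 * Nat.card (Sylow p G) < (p + 1) * (p + 2)) :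
    (∃ (F : Type) (_ : Field F) (_ : Fintype F), Fintype.card F = p ∧ 3 < p ∧
        Nonempty (G ≃* Matrix.ProjectiveSpecialLinearGroup (Fin 2) F)) ∨
      (∃ (m : ℕ) (F : Type) (_ : Field F) (_ : Fintype F), Fintype.card F = 2 ^ m ∧ p = 2 ^ m + 1 ∧ 3 < p ∧
        Nonempty (G ≃* Matrix.ProjectiveSpecialLinearGroup (Fin 2) F)) := by
  haveI := Fintype.ofFinite G
  obtain ⟨P, D, -, hK⟩ := SelfCent.exists_frame_selfCent hz hC
  obtain ⟨n, -, hidx⟩ := exists_index D hperf
  exact classification_of_notRep hperf D hK hidx (notRep_of_few hidx hn)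

end CfsgLib.Char.FewSylow
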