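import Cfsg.Agent.Lib.Char.FewSylow.Main
import Cfsg.Agent.Lib.Classical.SLOrders

/-!
# Perfect groups of order less than the cube of a prime divisor

Modulo the core the number of Sylow subgroups is small, so the classification applies.
-/

set_option autoImplicit false

open scoped Classical

namespace CfsgLib.Char.FewSylow

open Cfsg CfsgLib.Blocks CfsgLib.Blocks.DefectOne

variable {G : Type*} [Group G] [Fintype G] {p : ℕ} [hp : Fact p.Prime] {P : Sylow p G}

omit [Fintype G] hp in
theorem perfect_quotient {G : Type*} [Group G] (hperf : commutator G = ⊤) (M : Subgroup G) [M.Normal] :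
    commutator (G ⧸ M) = ⊤ := by
  have h := map_derivedSeries_eq (f := QuotientGroup.mk' M) (QuotientGroup.mk'_surjective M) 1
  rw [derivedSeries_one, derivedSeries_one, hperf] at h
  rw [← h]
  exact Subgroup.map_top_of_surjective _ (QuotientGroup.mk'_surjective M)

omit [Fintype G] in
theorem not_dvd_card_core {G : Type*} [Group G] [Finite G] (p : ℕ) [Fact p.Prime] :
    ¬ p ∣ Nat.card (Cfsg.pPrimeCore p G) :=
  (Fact.out : p.Prime).coprime_iff_not_dvd.1 (CfsgLib.Solvable.Cores.coprime_card_pPrimeCore p).symm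

omit [Fintype G] in
/-- The quotient by the core has no nontrivial normal subgroup of order prime to `p`. -/
theorem eq_bot_of_quotient_core {G : Type*} [Group G] [Finite G] (p : ℕ) [Fact p.Prime]
    [(Cfsg.pPrimeCore p G).Normal] (N : Subgroup (G ⧸ Cfsg.pPrimeCore p G)) (hN : N.Normal)
    (hNp : ¬ p ∣ Nat.card N) : N = ⊥ := by
  have hp : p.Prime := Fact.out
  set M := Cfsg.pPrimeCore p G
  have h1 : Nat.card (N.comap (QuotientGroup.mk' M)) = Nat.card N * Nat.card M := by
    have h := Subgroup.card_mul_index (N.comap (QuotientGroup.mk' M))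
    rw [Subgroup.index_comap_of_surjective _ (QuotientGroup.mk'_surjective M),
      Subgroup.card_eq_card_quotient_mul_card_subgroup M, ← N.card_mul_index] at h
    exact Nat.eq_of_mul_eq_mul_right (Nat.pos_of_ne_zero N.index_ne_zero_of_finite) (h.trans (by ring))
  have hle : N.comap (QuotientGroup.mk' M) ≤ M := CfsgLib.Solvable.Cores.le_pPrimeCore
    (Nat.coprime_comm.1 ((hp.coprime_iff_not_dvd).2 fun h => by
      rw [h1] at h
      rcases (hp.dvd_mul).1 h with h | h
      exacts [hNp h, not_dvd_card_core p h]))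
  rw [Subgroup.eq_bot_iff_forall]
  intro x hx
  obtain ⟨g, rfl⟩ := QuotientGroup.mk_surjective x
  exact (QuotientGroup.eq_one_iff g).2 (hle hx)

theorem card_psl_two {F : Type*} [Field F] [Fintype F] :
    Nat.gcd 2 (Fintype.card F - 1) * Nat.card (Matrix.ProjectiveSpecialLinearGroup (Fin 2) F)
      = Fintype.card F * ((Fintype.card F - 1) * (Fintype.card F + 1)) := by
  rw [CfsgLib.Classical.card_psl_mul rfl 2 one_le_two]
  have h := CfsgLib.Classical.card_sl_mul (F := F) rfl 2 one_le_two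
  rw [Fin.prod_univ_two, Fin.val_zero, Fin.val_one, pow_zero, pow_one] at h
  have h2 := Fintype.one_lt_card (α := F)
  refine Nat.eq_of_mul_eq_mul_left (show 0 < Fintype.card F - 1 by omega) ?_
  rw [h]
  obtain ⟨k, hk⟩ : ∃ k, Fintype.card F = k + 1 := ⟨_, (Nat.succ_pred_eq_of_pos (by omega)).symm⟩
  rw [hk, Nat.add_sub_cancel, show (k + 1) ^ 2 - 1 = k * (k + 2) by rw [show (k + 1) ^ 2 = k * (k + 2) + 1 by ring, Nat.add_sub_cancel],
    show (k + 1) ^ 2 - (k + 1) = (k + 1) * k by rw [show (k + 1) ^ 2 = (k + 1) * k + (k + 1) by ring, Nat.add_sub_cancel]]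
  ring

omit [Fintype G] in
/-- The classification for perfect groups of order less than `p ^ 3`. -/
theorem classification_cubed {G : Type*} [Group G] [Finite G] (hperf : commutator G = ⊤) (p : ℕ) [Fact p.Prime]
    (hdvd : p ∣ Nat.card G) (hsq : ¬ p ^ 2 ∣ Nat.card G) (hbig : Nat.card G < p ^ 3)
    (h2 : ∀ N : Subgroup G, N.Normal → Nat.card N ≠ 2) :
    (∃ (F : Type) (_ : Field F) (_ : Fintype F), Fintype.card F = p ∧ 3 < p ∧
        Nonempty (G ≃* Matrix.ProjectiveSpecialLinearGroup (Fin 2) F)) ∨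
      (∃ (m : ℕ) (F : Type) (_ : Field F) (_ : Fintype F), Fintype.card F = 2 ^ m ∧ p = 2 ^ m + 1 ∧ 3 < p ∧
        Nonempty (G ≃* Matrix.ProjectiveSpecialLinearGroup (Fin 2) F)) := by
  have hp : p.Prime := Fact.out
  set M := Cfsg.pPrimeCore p G with hMdef
  haveI hMn : M.Normal := Subgroup.sSup_normal _ fun N hN => hN.1
  have hMp : ¬ p ∣ Nat.card M :=
    hp.coprime_iff_not_dvd.1 (CfsgLib.Solvable.Cores.coprime_card_pPrimeCore p).symm
  let Q := G ⧸ M
  haveI : Fintype Q := Fintype.ofFinite _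
  have hGQ : Nat.card G = Nat.card Q * Nat.card M := Subgroup.card_eq_card_quotient_mul_card_subgroup M
  have hperfQ : commutator Q = ⊤ := perfect_quotient hperf M
  have hdQ : p ∣ Nat.card Q := ((hp.dvd_mul).1 (hGQ ▸ hdvd)).resolve_right hMp
  have hsqQ : ¬ p ^ 2 ∣ Nat.card Q := fun h => hsq (hGQ ▸ h.mul_right _)
  have hbigQ : Nat.card Q < p ^ 3 := lt_of_le_of_lt
    (hGQ ▸ Nat.le_mul_of_pos_right _ Nat.card_pos) hbig
  have hcoreQ : ∀ N : Subgroup Q, N.Normal → ¬ p ∣ Nat.card N → N = ⊥ := eq_bot_of_quotient_core p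
  -- the quotient
  obtain ⟨P⟩ : Nonempty (Sylow p Q) := inferInstance
  have hPc : Nat.card P = p := card_sylow hdQ hsqQ P
  obtain ⟨D⟩ := exists_frame P hPc
  obtain ⟨n, hn1, hidx⟩ := exists_index D hperfQ
  have hrep : NotRep (p : ℤ) (n : ℤ) := by
    refine NotRep.of_few (by exact_mod_cast hp.pos) ?_
    have h := Subgroup.card_mul_index (nrm P)
    have hq2 := two_le_range D hperfQ
    rw [D.card_nrm, hidx] at h
    have hpc : p ≤ Nat.card (cent P) := by
      refine hPc.symm.le.trans (Subgroup.card_le_of_le fun u hu => ?_)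
      rw [D.mem_cent_iff]
      rw [← D.zp] at hu
      obtain ⟨i, rfl⟩ := Subgroup.mem_zpowers_iff.1 hu
      exact (Commute.refl D.x).zpow_left i
    have h3 : 2 * p * (n * p) ≤ Nat.card Q := by
      rw [← h]
      exact Nat.mul_le_mul (Nat.mul_le_mul hq2 hpc) (Nat.le_add_left _ _)
    have h4 : 2 * n * p ^ 2 < p * p ^ 2 := by nlinarith
    have := Nat.lt_of_mul_lt_mul_right h4
    omega
  have hres := classification_of_notRep hperfQ D (K0_eq_bot D hperfQ hn1 hidx hrep hcoreQ) hidx hrep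
  -- the core is trivial
  have hM1 : Nat.card M = 1 := by
    have hpos : 0 < Nat.card M := Nat.card_pos
    have hne2 := h2 M hMn
    by_contra hne
    have hM3 : 3 ≤ Nat.card M := by omega
    have hb : Nat.card Q * 3 < p ^ 3 := lt_of_le_of_lt (hGQ ▸ Nat.mul_le_mul_left _ hM3) hbig
    rcases hres with ⟨F, i1, i2, hF, h3, ⟨e⟩⟩ | ⟨m, F, i1, i2, hF, hpm, h3, ⟨e⟩⟩
    · have h := card_psl_two (F := F)
      rw [← Nat.card_congr e.toEquiv, hF] at h
      have hle := Nat.mul_le_mul_right (Nat.card Q) (Nat.le_of_dvd two_pos (Nat.gcd_dvd_left 2 (p - 1)))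
      rw [h] at hle
      obtain ⟨k, rfl⟩ : ∃ k, p = k + 4 := ⟨p - 4, by omega⟩
      rw [show k + 4 - 1 = k + 3 by omega] at hle
      nlinarith [Nat.zero_le (k * k * k), Nat.zero_le (k * k)]
    · have h := card_psl_two (F := F)
      rw [← Nat.card_congr e.toEquiv, hF] at h
      have hg : Nat.gcd 2 (2 ^ m - 1) = 1 := by
        have hm : m ≠ 0 := fun e => by rw [e, pow_zero] at hpm; omega
        have hev : 2 ∣ 2 ^ m := dvd_pow_self 2 hm
        have hp' : 1 ≤ 2 ^ m := Nat.one_le_two_pow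
        exact (Nat.prime_two.coprime_iff_not_dvd).2 (by omega)
      rw [hg, one_mul] at h
      rw [h] at hb
      obtain ⟨k, rfl⟩ : ∃ k, p = k + 4 := ⟨p - 4, by omega⟩
      rw [show 2 ^ m = k + 3 by omega, show k + 3 - 1 = k + 2 by omega] at hb
      by_cases hk : k = 0
      · subst hk
        have hq : ¬ (0 + 4 : ℕ).Prime := by norm_num
        exact hq hp
      · nlinarith
  have hMbot : M = ⊥ := Subgroup.card_eq_one.1 hM1
  let e0 : G ≃* Q := ((QuotientGroup.quotientMulEquivOfEq hMbot).trans QuotientGroup.quotientBot).symm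
  rcases hres with ⟨F, i1, i2, hF, h3, ⟨e⟩⟩ | ⟨m, F, i1, i2, hF, hpm, h3, ⟨e⟩⟩
  · exact Or.inl ⟨F, i1, i2, hF, h3, ⟨e0.trans e⟩⟩
  · exact Or.inr ⟨m, F, i1, i2, hF, hpm, h3, ⟨e0.trans e⟩⟩

omit [Fintype G] in
/-- A Sylow subgroup that is not normal has prime order when the group is small. -/
theorem not_sq_dvd_of_small {G : Type*} [Group G] [Finite G] (p : ℕ) [Fact p.Prime] (P : Sylow p G)
    (hP : ¬ (P : Subgroup G).Normal) (hbig : Nat.card G < p ^ 3) : ¬ p ^ 2 ∣ Nat.card G := fun h => by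
  have hp : p.Prime := Fact.out
  have hne : Nat.card (Sylow p G) ≠ 1 := fun e => by
    refine hP (Subgroup.normalizer_eq_top_iff.1 (Subgroup.index_eq_one.1 ?_))
    exact P.card_eq_index_normalizer.symm.trans e
  have hmod : Nat.card (Sylow p G) % p = 1 % p := card_sylow_modEq_one p G
  rw [Nat.one_mod_eq_one.2 hp.one_lt.ne'] at hmod
  have hge : p + 1 ≤ Nat.card (Sylow p G) := by
    by_contra hc
    push Not at hc
    rcases eq_or_lt_of_le (Nat.lt_succ_iff.1 hc) with e | e
    · rw [e, Nat.mod_self] at hmod; omega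
    · rw [Nat.mod_eq_of_lt e] at hmod; exact hne hmod
  have h1 : p ^ 2 ≤ Nat.card (P : Subgroup G) := Nat.le_of_dvd Nat.card_pos (P.pow_dvd_card_of_pow_dvd_card h)
  have h2 : Nat.card (P : Subgroup G) * Nat.card (Sylow p G) ≤ Nat.card G := by
    rw [P.card_eq_index_normalizer, ← Subgroup.card_mul_index (Subgroup.normalizer ((P : Subgroup G) : Set G))]
    exact Nat.mul_le_mul_right _ (Subgroup.card_le_of_le Subgroup.le_normalizer)
  have h3 := Nat.mul_le_mul h1 hge
  nlinarith

omit [Fintype G] in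
/-- In even characteristic `PSL` is `SL`. -/
theorem nonempty_sl_equiv_psl {F : Type*} [Field F] [Fintype F] (h : Even (Fintype.card F)) :
    Nonempty (Matrix.ProjectiveSpecialLinearGroup (Fin 2) F ≃* Matrix.SpecialLinearGroup (Fin 2) F) := by
  have hc := CfsgLib.Classical.card_center_sl (F := F) 2 one_le_two
  have hg : Nat.gcd 2 (Fintype.card F - 1) = 1 := by
    have := Fintype.one_lt_card (α := F)
    obtain ⟨k, hk⟩ := h
    exact (Nat.prime_two.coprime_iff_not_dvd).2 (by omega)
  rw [hg] at hc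
  exact ⟨(QuotientGroup.quotientMulEquivOfEq (Subgroup.card_eq_one.1 hc)).trans QuotientGroup.quotientBot⟩

end CfsgLib.Char.FewSylow
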