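import Mathlib

/-!
# Brauer's theorem on few Sylow subgroups: the arithmetic of the degrees

`p` is the prime, `q` the order of the automizer, `t` the number of classes of elements of order
`p` and `1 + n * p` the number of Sylow subgroups. The hypothesis `NotRep p n` says that `n` is not
`(h u p + u ^ 2 + u + h) / (u + 1)` for positive `h` and `u`; it holds for `2 n ≤ p + 2`.
-/

set_option autoImplicit false

namespace CfsgLib.Char.FewSylow

variable {p q t n : ℤ}

/-- `n` is not of the form `(h u p + u ^ 2 + u + h) / (u + 1)`. -/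
def NotRep (p n : ℤ) : Prop := ∀ h u : ℤ, 0 < h → 0 < u → n * (u + 1) ≠ h * u * p + u ^ 2 + u + h

theorem NotRep.of_few (hp : 0 < p) (hn : 2 * n ≤ p + 2) : NotRep p n := by
  intro h u hh hu e
  have h1 : u * p + u ^ 2 + u + 1 ≤ n * (u + 1) := by
    rw [e]
    nlinarith [mul_nonneg (show 0 ≤ h - 1 by omega) (show 0 ≤ u * p + 1 by nlinarith)]
  have h2 : 2 * n * (u + 1) ≤ (p + 2) * (u + 1) := mul_le_mul_of_nonneg_right hn (by omega)
  have h3 : 0 ≤ (u - 1) * p := mul_nonneg (by omega) (by omega)
  nlinarith [mul_nonneg (show 0 ≤ u - 1 by omega) (show 0 ≤ 2 * u + 1 by omega)]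

theorem not_dvd_q (hq : 0 < q) (hqt : q * t = p - 1) (ht : 1 ≤ t) : ¬ p ∣ q := fun h => by
  have := Int.le_of_dvd hq h
  nlinarith

/-- A degree congruent to `1`. -/
theorem deg_plus (hp : 2 ≤ p) (hq : 0 < q) (ht : 1 ≤ t) (hqt : q * t = p - 1) (hn : NotRep p n)
    {f g u : ℤ} (hu : 1 ≤ u) (hf : f = u * p + 1) (hg : 0 < g) (h : g * f = q * (1 + n * p)) :
    f = 1 + n * p := by
  obtain ⟨j, hj⟩ : p ∣ g - q := ⟨q * n - g * u, by rw [hf] at h; linear_combination h⟩
  have hqp : q < p := by nlinarith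
  have hj0 : 0 ≤ j := by
    by_contra hc
    nlinarith
  have h1 : j * (u * p + 1) = q * (n - u) := by
    have h' : (p * j + q) * (u * p + 1) = q * (1 + n * p) := by
      rw [show p * j + q = g by linarith, ← hf]; exact h
    refine mul_left_cancel₀ (show p ≠ 0 by omega) ?_
    linear_combination h'
  rcases eq_or_lt_of_le hj0 with hj1 | hj1
  · rw [← hj1, zero_mul, eq_comm, mul_eq_zero] at h1
    rcases h1 with h1 | h1
    · omega
    · rw [hf, show u = n by omega]; ring
  · exfalso
    obtain ⟨k, hk⟩ : q ∣ j * (u + 1) :=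
      ⟨n - u - j * u * t, by linear_combination h1 + j * u * hqt⟩
    have hk1 : 1 ≤ k := by
      by_contra hc
      nlinarith
    refine hn k u (by omega) (by omega) (mul_left_cancel₀ (show q ≠ 0 by omega) ?_)
    linear_combination (-(u + 1)) * h1 + (u * p + 1) * hk

/-- A degree congruent to `-1`. -/
theorem deg_minus (hp : 3 ≤ p) (hq : 0 < q) (ht : 1 ≤ t) (hqt : q * t = p - 1) (hn0 : 0 ≤ n)
    (hn : NotRep p n) {f g u : ℤ} (hu : 1 ≤ u) (hf : f = u * p - 1) (hg : 0 < g)
    (h : g * f = q * (1 + n * p)) : f = p - 1 ∨ (t = 1 ∧ f = q * (1 + n * p)) := by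
  obtain ⟨j, hj⟩ : p ∣ g + q := ⟨g * u - q * n, by rw [hf] at h; linear_combination -h⟩
  have hj1 : 1 ≤ j := by
    by_contra hc
    nlinarith
  have h1 : j * (u * p - 1) = q * (n + u) := by
    have h' : (p * j - q) * (u * p - 1) = q * (1 + n * p) := by
      rw [show p * j - q = g by linarith, ← hf]; exact h
    refine mul_left_cancel₀ (show p ≠ 0 by omega) ?_
    linear_combination h'
  by_cases hu1 : u = 1
  · exact Or.inl (by rw [hf, hu1, one_mul])
  have hu2 : 2 ≤ u := by omega
  obtain ⟨k, hk⟩ : q ∣ j * (u - 1) :=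
    ⟨n + u - j * u * t, by linear_combination h1 + j * u * hqt⟩
  have hk1 : 1 ≤ k := by
    by_contra hc
    nlinarith
  have h2 : n = k * p + t * j - u := by
    refine mul_left_cancel₀ (show q ≠ 0 by omega) ?_
    linear_combination -h1 + p * hk - j * hqt
  by_cases htj : 2 ≤ t * j
  · refine absurd ?_ (hn k (t * j - 1) (by omega) (by omega))
    rw [h2]
    linear_combination -t * hk - k * hqt
  refine Or.inr ?_
  have htj1 : t * j = 1 := by
    have : 1 ≤ t * j := one_le_mul_of_one_le_of_one_le ht hj1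
    omega
  have ht1 : t = 1 := le_antisymm (htj1 ▸ le_mul_of_one_le_right (by omega) hj1) ht
  refine ⟨ht1, ?_⟩
  rw [ht1, one_mul] at htj1
  subst ht1 htj1
  rw [show g = 1 by linarith, one_mul] at h
  exact h

/-- The exceptional characters when their sign is `-1`. -/
theorem exceptional_neg (hp : 5 ≤ p) (hq : 2 ≤ q) (ht : 2 ≤ t) (hqt : q * t = p - 1) (hn1 : 1 ≤ n)
    (hn : NotRep p n) {a b e w g : ℤ} (ha : 0 ≤ a) (hb : 1 ≤ b) (hab : a + b = q - 1)
    (hw : 0 ≤ w) (he : e = w * p + q) (hg : 0 < g) (h : g * e = q * (1 + n * p))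
    (hrel : 1 + a * (1 + n * p) = b * (p - 1) + e) : w = 0 ∧ a * (n + 1) = q - 1 := by
  by_cases hw0 : w = 0
  · subst hw0
    refine ⟨rfl, mul_left_cancel₀ (show p ≠ 0 by omega) ?_⟩
    linear_combination hrel + he + (p - 1) * hab
  exfalso
  obtain ⟨i, hi⟩ : p ∣ g - 1 := by
    have h2 : IsCoprime p q := by
      refine ⟨1, -t, ?_⟩
      linear_combination -hqt
    refine h2.dvd_of_dvd_mul_left ⟨q * n - g * w, ?_⟩
    rw [he] at h
    linear_combination h
  have hi0 : 0 ≤ i := by
    by_contra hc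
    nlinarith
  have h1 : w * (i * p + 1) = q * (n - i) := by
    have h' : (p * i + 1) * e = q * (1 + n * p) := by rw [show p * i + 1 = g by linarith]; exact h
    refine mul_left_cancel₀ (show p ≠ 0 by omega) ?_
    linear_combination h' - (p * i + 1) * he
  rcases eq_or_lt_of_le hi0 with hi1 | hi1
  · have h3 : e = q * (1 + n * p) := by
      rw [show g = 1 by rw [← hi1, mul_zero] at hi; omega, one_mul] at h
      exact h
    have h4 : a * (1 + n * p) ≤ (q - 2) * (1 + n * p) := mul_le_mul_of_nonneg_right (by omega) (by nlinarith)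
    have h5 : 0 ≤ b * (p - 1) := mul_nonneg (by omega) (by omega)
    nlinarith
  obtain ⟨r, hr⟩ : q ∣ w * (i + 1) :=
    ⟨n - i - w * i * t, by linear_combination h1 + w * i * hqt⟩
  have hr1 : 1 ≤ r := by
    by_contra hc
    have h5 : 0 < w * (i + 1) := mul_pos (by omega) (by omega)
    have h6 : q * r ≤ 0 := mul_nonpos_of_nonneg_of_nonpos (by omega) (by omega)
    omega
  have h2 : n - i = r * p - w * t := by
    refine mul_left_cancel₀ (show q ≠ 0 by omega) ?_
    linear_combination p * hr - h1 + w * hqt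
  refine hn r i (by omega) hi1 ?_
  rw [show n = r * p - w * t + i by linarith]
  linear_combination -t * hr - r * hqt

/-- The exceptional characters when their sign is `1`. -/
theorem exceptional_pos (hp : 5 ≤ p) (hq : 2 ≤ q) (ht : 2 ≤ t) (hqt : q * t = p - 1) (hn1 : 1 ≤ n)
    (hn : NotRep p n) {a b e w g : ℤ} (hab : a + b = q - 1) (he : e = w * p - q) (he0 : 0 < e)
    (hg : 0 < g) (h : g * e = q * (1 + n * p))
    (hrel : 1 + a * (1 + n * p) + e = b * (p - 1)) :
    1 ≤ w ∧ n + 1 = w * t ∧ t * e = 1 + n * p ∧ q - 1 = w + a * (n + 1) := by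
  have hw : 1 ≤ w := by
    by_contra hc
    nlinarith
  have hwa : q - 1 = w + a * (n + 1) := by
    refine mul_left_cancel₀ (show p ≠ 0 by omega) ?_
    linear_combination -hrel + he - (p - 1) * hab
  obtain ⟨i, hi⟩ : p ∣ g + 1 := by
    have h2 : IsCoprime p q := ⟨1, -t, by linear_combination -hqt⟩
    refine h2.dvd_of_dvd_mul_left ⟨g * w - q * n, ?_⟩
    rw [he] at h
    linear_combination -h
  have hi1 : 1 ≤ i := by
    by_contra hc
    nlinarith
  have h1 : w * (i * p - 1) = q * (n + i) := by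
    have h' : (p * i - 1) * e = q * (1 + n * p) := by rw [show p * i - 1 = g by linarith]; exact h
    refine mul_left_cancel₀ (show p ≠ 0 by omega) ?_
    linear_combination h' - (p * i - 1) * he
  by_cases hi2 : i = 1
  · subst hi2
    have h2 : n + 1 = w * t := by
      refine mul_left_cancel₀ (show q ≠ 0 by omega) ?_
      linear_combination -h1 - w * hqt
    exact ⟨hw, h2, by rw [he]; linear_combination -hqt - p * h2, hwa⟩
  exfalso
  obtain ⟨r, hr⟩ : q ∣ w * (i - 1) :=
    ⟨n + i - w * i * t, by linear_combination h1 + w * i * hqt⟩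
  have hr1 : 1 ≤ r := by
    by_contra hc
    have h5 : 0 < w * (i - 1) := mul_pos (by omega) (by omega)
    have h6 : q * r ≤ 0 := mul_nonpos_of_nonneg_of_nonpos (by omega) (by omega)
    omega
  have h2 : n + i = r * p + w * t := by
    refine mul_left_cancel₀ (show q ≠ 0 by omega) ?_
    linear_combination p * hr - h1 - w * hqt
  refine hn r (t * w - 1) (by omega) (by nlinarith) ?_
  rw [show n = r * p + w * t - i by linarith]
  linear_combination -t * hr - r * hqt

end CfsgLib.Char.FewSylow
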