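import Cfsg.Agent.Lib.Char.FewSylow.Arith
import Cfsg.Agent.Lib.Blocks.SelfCentPrime
import Cfsg.Agent.Lib.Blocks.DefectOneGalois
import Cfsg.Agent.Lib.Char.Orth
import Cfsg.Agent.Lib.Char.Linear

/-!
# Brauer's theorem on few Sylow subgroups: the normalizer and the deflated characters

`H = ⟨s⟩` is a complement of `P` in its normalizer. A character `χ` of `G` gives the character
`phi χ` of `H` afforded by the fixed points of `P`: it is `χ` off the identity.
-/

set_option autoImplicit false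

namespace CfsgLib.Char.FewSylow

open Cfsg CfsgLib.Blocks CfsgLib.Blocks.DefectOne
open scoped Classical ComplexConjugate

variable {G : Type*} [Group G] [Fintype G] {p : ℕ} [hp : Fact p.Prime] {P : Sylow p G}

/-- The data: `q` is the order of the automizer, `t` the number of classes of elements of order `p`
and `1 + n * p` the number of Sylow subgroups. -/
structure Setting (D : Frame P) (q t n : ℕ) (s : G) : Prop where
  hK : D.K0 = ⊥
  perf : commutator G = ⊤
  hq : SelfCent.auto D = q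
  hqt : q * t = p - 1
  idx : (nrm P).index = 1 + n * p
  notRep : NotRep (p : ℤ) (n : ℤ)
  two_le_q : 2 ≤ q
  one_le_n : 1 ≤ n
  ord_s : orderOf s = q
  s_mem : ∃ h : s ∈ nrm P, orderOf (D.act ⟨s, h⟩) = q

/-- Existence of the data. -/
theorem exists_setting (D : Frame P) (hK : D.K0 = ⊥) (hperf : commutator G = ⊤) {n : ℕ}
    (hn' : (nrm P).index = 1 + n * p) (hrep : NotRep (p : ℤ) (n : ℤ)) :
    ∃ q t s, Setting D q t n s := by
  set q := SelfCent.auto D with hq
  have hq1 : q ≠ 1 := fun e => by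
    have h := (SelfCent.commutator_of_auto_eq_one hK e).1
    rw [hperf, Subgroup.index_top] at h
    exact hp.out.one_lt.ne h
  have hq0 : 0 < q := (range_pos_lt D).1
  have hcl := SelfCent.card_classes_mul D
  set t := Nat.card {C : ConjClasses G // ∃ g ∈ C.carrier, orderOf g = p} with ht
  have hn1 : 1 ≤ n := by
    by_contra hc
    obtain rfl : n = 0 := by omega
    have htop : nrm P = ⊤ := Subgroup.index_eq_one.1 (by omega)
    let f : G →* (ZMod p)ˣ :=
      D.act.comp ((MonoidHom.id G).codRestrict (nrm P) fun g => htop ▸ Subgroup.mem_top g)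
    have hker : f.ker = ⊤ := eq_top_iff.2 (hperf ▸ Abelianization.commutator_subset_ker f)
    refine hq1 (Subgroup.card_eq_one.2 ((Subgroup.eq_bot_iff_forall _).2 ?_))
    rintro _ ⟨m, rfl⟩
    exact MonoidHom.mem_ker.1 (show (m : G) ∈ f.ker from hker ▸ Subgroup.mem_top _)
  obtain ⟨⟨u, m, hmu⟩, hgen⟩ := IsCyclic.exists_generator (α := D.act.range)
  have hord : orderOf (D.act m) = q := by
    rw [hmu, ← Subgroup.orderOf_mk (H := D.act.range) u ⟨m, hmu⟩]
    exact orderOf_eq_card_of_forall_mem_zpowers hgen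
  have hme : (m : G) ^ q = 1 := by
    have h1 : ((m ^ q : nrm P) : G) ∈ (P : Subgroup G) :=
      (SelfCent.act_eq_one_iff hK _).1 (by rw [map_pow, ← hord, pow_orderOf_eq_one])
    obtain ⟨i, hi⟩ := (isOfFinOrder_of_finite D.x).mem_powers_iff_mem_zpowers.2
      (show ((m ^ q : nrm P) : G) ∈ Subgroup.zpowers D.x by rw [D.zp]; exact h1)
    have hi' : D.x ^ (i : ZMod p).val = (m : G) ^ q := by rw [D.xpow_eq]; exact hi
    have hfix : (D.act m : ZMod p) * (i : ZMod p) = (i : ZMod p) := by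
      apply D.xpow_inj
      rw [← D.xpow_mul, ← D.conj_x, conj_pow, hi']
      group
    have hne1 : D.act m ≠ 1 := fun h => hq1 (by rw [← hord, h, orderOf_one])
    have hi0 : (i : ZMod p) = 0 := by
      by_contra hne
      exact hne1 (Units.ext ((mul_eq_right₀ hne).1 hfix))
    rw [← hi', hi0, ZMod.val_zero, pow_zero]
  have hords : orderOf (m : G) = q := by
    refine Nat.dvd_antisymm (orderOf_dvd_of_pow_eq_one hme) ?_
    rw [← hord, Subgroup.orderOf_coe]
    exact orderOf_map_dvd D.act m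
  exact ⟨q, t, m, hK, hperf, rfl, by rw [mul_comm]; exact hcl, hn', hrep, by omega, hn1, hords, m.2, hord⟩

variable {D : Frame P} {q t n : ℕ} {s : G}

namespace Setting

variable (S : Setting D q t n s)
include S

theorem H_le : Subgroup.zpowers s ≤ nrm P := Subgroup.zpowers_le.2 S.s_mem.1

theorem card_H : Nat.card (Subgroup.zpowers s) = q := by rw [Nat.card_zpowers, S.ord_s]

theorem card_nrm : Nat.card (nrm P) = p * q := by rw [SelfCent.card_nrm S.hK, S.hq]

theorem card_G : Nat.card G = p * q * (1 + n * p) := by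
  rw [← Subgroup.card_mul_index (nrm P), S.card_nrm, S.idx]

theorem q_lt : q < p := S.hq ▸ (range_pos_lt D).2

theorem regular {h : G} (hh : h ∈ Subgroup.zpowers s) : ¬ p ∣ orderOf h := fun hd => by
  have h1 := hd.trans ((Subgroup.orderOf_dvd_natCard _ hh).trans (dvd_of_eq S.card_H))
  have h2 := Nat.le_of_dvd (by have := S.two_le_q; omega) h1
  have := S.q_lt
  omega

omit S [Fintype G] in
theorem regular_one : ¬ p ∣ orderOf (1 : G) := by rw [orderOf_one]; exact hp.out.not_dvd_one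

theorem eq_one_of_mem {h : G} (hh : h ∈ Subgroup.zpowers s) (hP : h ∈ (P : Subgroup G)) : h = 1 := by
  have hd := Subgroup.orderOf_dvd_natCard _ hP
  rw [show Nat.card (P : Subgroup G) = p from D.card_P] at hd
  exact orderOf_eq_one_iff.1 (((Nat.dvd_prime hp.out).1 hd).resolve_right fun e => S.regular hh e.symm.dvd)

theorem act_ne {h : G} (hh : h ∈ Subgroup.zpowers s) (h1 : h ≠ 1) : D.act ⟨h, S.H_le hh⟩ ≠ 1 := fun e =>
  h1 (S.eq_one_of_mem hh ((SelfCent.act_eq_one_iff S.hK ⟨h, S.H_le hh⟩).1 e))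

theorem isConj_mul {h : G} (hh : h ∈ Subgroup.zpowers s) (h1 : h ≠ 1) (a : ZMod p) :
    IsConj (D.x ^ a.val * h) h := by
  set m : nrm P := ⟨h, S.H_le hh⟩ with hm
  have hu : (1 : ZMod p) - (D.act m : ZMod p) ≠ 0 := fun e => S.act_ne hh h1 (Units.ext (sub_eq_zero.1 e).symm)
  set b := a * ((1 : ZMod p) - (D.act m : ZMod p))⁻¹ with hb
  refine IsConj.symm (isConj_iff.2 ⟨D.x ^ b.val, ?_⟩)
  have h1' : (m : G) * (D.x ^ b.val)⁻¹ = D.x ^ (-((D.act m : ZMod p) * b)).val * (m : G) := by
    have h2 : (m : G) * D.x ^ b.val * (m : G)⁻¹ = D.x ^ ((D.act m : ZMod p) * b).val := by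
      rw [← conj_pow, D.conj_x, D.xpow_mul]
    have h3 : D.x ^ (-((D.act m : ZMod p) * b)).val = (D.x ^ ((D.act m : ZMod p) * b).val)⁻¹ :=
      eq_inv_of_mul_eq_one_left (by rw [D.xpow_add, neg_add_cancel, ZMod.val_zero, pow_zero])
    rw [h3, ← h2]; group
  show D.x ^ b.val * (m : G) * (D.x ^ b.val)⁻¹ = _
  rw [mul_assoc (D.x ^ b.val), h1', ← mul_assoc, D.xpow_add,
    show b + -((D.act m : ZMod p) * b) = a by rw [hb]; field_simp; ring]

theorem irr_mul_eq {h : G} (hh : h ∈ Subgroup.zpowers s) (h1 : h ≠ 1) (a : ZMod p) (χ : IrrCharacter G) :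
    (χ : G → ℂ) (D.x ^ a.val * h) = (χ : G → ℂ) h :=
  IsClassFunction.apply_eq_of_isConj (IsIrrCharacter.isClassFunction χ.2) (S.isConj_mul hh h1 a)

/-- The elements centralizing a nontrivial element of `H` have order prime to `p`. -/
theorem regular_of_commute {h : G} (hh : h ∈ Subgroup.zpowers s) (h1 : h ≠ 1) {c : G} (hc : Commute c h) :
    ¬ p ∣ orderOf c := fun hd => by
  obtain ⟨u, a, y, ha, he⟩ := D.exists_conj_el hd
  have hy : (y : G) = 1 := by
    have h2 : (y : G) ∈ (⊥ : Subgroup G) := S.hK ▸ y.2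
    exact Subgroup.mem_bot.1 h2
  rw [D.coe_el, hy, mul_one] at he
  have hcomm : Commute (u * h * u⁻¹) (D.x ^ a.val) := by
    rw [← he]
    exact (hc.symm).map (MulAut.conj u).toMonoidHom
  have hmem := SelfCent.mem_of_commute S.hK ha hcomm
  refine h1 ?_
  have hd' := Subgroup.orderOf_dvd_natCard _ hmem
  rw [show Nat.card (P : Subgroup G) = p from D.card_P,
    show orderOf (u * h * u⁻¹) = orderOf h from MulEquiv.orderOf_eq (MulAut.conj u) h] at hd'
  exact orderOf_eq_one_iff.1 (((Nat.dvd_prime hp.out).1 hd').resolve_right fun e => S.regular hh e.symm.dvd)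

/-- Coordinates on the normalizer. -/
noncomputable def coordN (S : Setting D q t n s) : ZMod p × Subgroup.zpowers s ≃ nrm P :=
  Equiv.ofBijective (fun z => ⟨D.x ^ z.1.val * (z.2 : G),
    mul_mem (Subgroup.le_normalizer (pow_mem D.x_mem _)) (S.H_le z.2.2)⟩) (by
    rw [Fintype.bijective_iff_injective_and_card]
    refine ⟨?_, ?_⟩
    · rintro ⟨a, h⟩ ⟨b, k⟩ e
      have e' : D.x ^ a.val * (h : G) = D.x ^ b.val * (k : G) := congrArg Subtype.val e
      have e2 : (h : G) * (k : G)⁻¹ = (D.x ^ a.val)⁻¹ * D.x ^ b.val := by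
        calc (h : G) * (k : G)⁻¹ = (D.x ^ a.val)⁻¹ * (D.x ^ a.val * (h : G)) * (k : G)⁻¹ := by group
          _ = _ := by rw [e']; group
      have hhk : (h : G) = (k : G) := mul_inv_eq_one.1 (S.eq_one_of_mem (mul_mem h.2 (inv_mem k.2))
        (e2 ▸ mul_mem (inv_mem (pow_mem D.x_mem _)) (pow_mem D.x_mem _)))
      rw [hhk] at e'
      rw [D.xpow_inj (mul_right_cancel e'), Subtype.ext hhk]
    · rw [← Nat.card_eq_fintype_card, ← Nat.card_eq_fintype_card, Nat.card_prod, Nat.card_zmod, S.card_H,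
        S.card_nrm])

theorem act_coordN (a : ZMod p) (h : Subgroup.zpowers s) :
    D.act (S.coordN (a, h)) = D.act ⟨(h : G), S.H_le h.2⟩ := by
  have : S.coordN (a, h) = ⟨D.x ^ a.val, Subgroup.le_normalizer (pow_mem D.x_mem _)⟩ * ⟨(h : G), S.H_le h.2⟩ := rfl
  rw [this, map_mul, (SelfCent.act_eq_one_iff S.hK _).2 (pow_mem D.x_mem _), one_mul]

/-- The projection of the normalizer on `H`. -/
noncomputable def proj (S : Setting D q t n s) : nrm P →* Subgroup.zpowers s :=
  MonoidHom.mk' (fun g => (S.coordN.symm g).2) fun g g' => by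
    have key : ∀ a h, ∀ u : nrm P, S.coordN (a, h) = u → D.act u = D.act ⟨(h : G), S.H_le h.2⟩ := by
      rintro a h u rfl; exact S.act_coordN a h
    obtain ⟨⟨a, h⟩, rfl⟩ := S.coordN.surjective g
    obtain ⟨⟨b, k⟩, rfl⟩ := S.coordN.surjective g'
    obtain ⟨⟨c, l⟩, hl⟩ := S.coordN.surjective (S.coordN (a, h) * S.coordN (b, k))
    rw [← hl, Equiv.symm_apply_apply, Equiv.symm_apply_apply, Equiv.symm_apply_apply]
    have h1 := key c l _ hl
    rw [map_mul, S.act_coordN, S.act_coordN, ← map_mul] at h1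
    have h2 : D.act (⟨((l⁻¹ * (h * k) : Subgroup.zpowers s) : G), S.H_le (l⁻¹ * (h * k)).2⟩ : nrm P) = 1 := by
      rw [show (⟨((l⁻¹ * (h * k) : Subgroup.zpowers s) : G), S.H_le (l⁻¹ * (h * k)).2⟩ : nrm P) =
        (⟨(l : G), S.H_le l.2⟩ : nrm P)⁻¹ * (⟨(h : G), S.H_le h.2⟩ * ⟨(k : G), S.H_le k.2⟩) from rfl,
        map_mul, map_inv, h1, inv_mul_cancel]
    by_contra hne
    refine S.act_ne (l⁻¹ * (h * k)).2 (fun e => hne ?_) h2
    exact inv_mul_eq_one.1 (Subtype.ext e)

theorem proj_coordN (a : ZMod p) (h : Subgroup.zpowers s) : S.proj (S.coordN (a, h)) = h := by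
  show (S.coordN.symm _).2 = h
  rw [Equiv.symm_apply_apply]

theorem coe_coordN (a : ZMod p) (h : Subgroup.zpowers s) : (S.coordN (a, h) : G) = D.x ^ a.val * (h : G) := rfl

end Setting

/-! ### The deflated characters -/

/-- The character of `H` on the fixed points of `P`. -/
noncomputable def phi (D : Frame P) (s : G) (χ : IrrCharacter G) (h : Subgroup.zpowers s) : ℂ :=
  (p : ℂ)⁻¹ * ∑ a : ZMod p, (χ : G → ℂ) (D.x ^ a.val * (h : G))

namespace Setting

variable (S : Setting D q t n s)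
include S

theorem phi_apply (χ : IrrCharacter G) {h : Subgroup.zpowers s} (h1 : h ≠ 1) :
    phi D s χ h = (χ : G → ℂ) (h : G) := by
  rw [phi, Finset.sum_congr rfl fun a _ => S.irr_mul_eq h.2 (fun e => h1 (Subtype.ext e)) a χ, Finset.sum_const,
    Finset.card_univ, ZMod.card, nsmul_eq_mul, ← mul_assoc, inv_mul_cancel₀ (Nat.cast_ne_zero.2 hp.out.ne_zero),
    one_mul]

omit S [Fintype G] in
theorem phi_one (χ : IrrCharacter G) :
    (p : ℂ) * phi D s χ 1 = (χ : G → ℂ) 1 + ∑ a ∈ Finset.univ.erase (0 : ZMod p), (χ : G → ℂ) (D.x ^ a.val) := by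
  rw [phi, ← mul_assoc, mul_inv_cancel₀ (Nat.cast_ne_zero.2 hp.out.ne_zero), one_mul,
    ← Finset.add_sum_erase _ _ (Finset.mem_univ (0 : ZMod p))]
  simp

omit S [Fintype G] in
theorem comm_H (a b : Subgroup.zpowers s) : a * b = b * a := by
  obtain ⟨i, hi⟩ := Subgroup.mem_zpowers_iff.1 a.2
  obtain ⟨j, hj⟩ := Subgroup.mem_zpowers_iff.1 b.2
  exact Subtype.ext (by simp only [Subgroup.coe_mul, ← hi, ← hj, ← zpow_add, add_comm])

omit S in
theorem irrH_one (μ : IrrCharacter (Subgroup.zpowers s)) : (μ : Subgroup.zpowers s → ℂ) 1 = 1 :=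
  apply_one_eq_one_of_comm comm_H μ.2

omit S in
theorem irrH_mul (μ : IrrCharacter (Subgroup.zpowers s)) (a b : Subgroup.zpowers s) :
    (μ : Subgroup.zpowers s → ℂ) (a * b) = (μ : Subgroup.zpowers s → ℂ) a * (μ : Subgroup.zpowers s → ℂ) b := by
  obtain ⟨φ, hφ⟩ := exists_hom_of_apply_one_eq_one (isCharacter_irr μ) (irrH_one μ)
  rw [hφ]
  simp

omit S in
theorem isClassFunction_H (f : Subgroup.zpowers s → ℂ) : IsClassFunction (Subgroup.zpowers s) f :=
  fun a b => by rw [comm_H b a, mul_inv_cancel_right]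

theorem exists_coef (χ : IrrCharacter G) (μ : IrrCharacter (Subgroup.zpowers s)) :
    ∃ m : ℕ, classInner (phi D s χ) (μ : Subgroup.zpowers s → ℂ) = m := by
  obtain ⟨m, hm⟩ := IsCharacter.classInner_nat (IsCharacter.restrict (isCharacter_irr χ) (nrm P))
    (IsCharacter.comp (isCharacter_irr μ) S.proj)
  refine ⟨m, hm ▸ ?_⟩
  rw [Cfsg.classInner, Cfsg.classInner, ← Fintype.sum_equiv S.coordN
      (fun z : ZMod p × Subgroup.zpowers s =>
        (χ : G → ℂ) (D.x ^ z.1.val * (z.2 : G)) * conj ((μ : Subgroup.zpowers s → ℂ) z.2)) _ fun z => by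
      obtain ⟨a, h⟩ := z
      simp only [Function.comp_apply, S.proj_coordN, S.coe_coordN],
    Fintype.sum_prod_type, Finset.sum_comm, S.card_H, S.card_nrm, Finset.mul_sum, Finset.mul_sum]
  refine Finset.sum_congr rfl fun h _ => ?_
  simp only [phi, ← Finset.sum_mul]
  push_cast
  rw [mul_inv]
  ring

end Setting

/-- The multiplicity of a linear character of `H`. -/
noncomputable def coef (D : Frame P) (s : G) (χ : IrrCharacter G) (μ : IrrCharacter (Subgroup.zpowers s)) : ℕ :=
  if h : ∃ m : ℕ, classInner (phi D s χ) (μ : Subgroup.zpowers s → ℂ) = m then h.choose else 0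

/-- The dimension of the fixed points of `P`. -/
noncomputable def fix (D : Frame P) (s : G) (χ : IrrCharacter G) : ℕ := ∑ μ, coef D s χ μ

/-- The trivial character. -/
noncomputable def triv (H : Type*) [Group H] [Finite H] : IrrCharacter H := ⟨fun _ => 1, isIrrCharacter_one⟩

namespace Setting

variable (S : Setting D q t n s)
include S

theorem coef_spec (χ : IrrCharacter G) (μ : IrrCharacter (Subgroup.zpowers s)) :
    classInner (phi D s χ) (μ : Subgroup.zpowers s → ℂ) = (coef D s χ μ : ℂ) := by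
  rw [coef, dif_pos (S.exists_coef χ μ)]
  exact (S.exists_coef χ μ).choose_spec

theorem phi_eq (χ : IrrCharacter G) (h : Subgroup.zpowers s) :
    phi D s χ h = ∑ μ : IrrCharacter (Subgroup.zpowers s),
      (coef D s χ μ : ℂ) * (μ : Subgroup.zpowers s → ℂ) h := by
  have h1 := congrFun (IsClassFunction.eq_sum_irr (isClassFunction_H (phi D s χ))) h
  simp only [Finset.sum_apply, Pi.smul_apply, smul_eq_mul, S.coef_spec] at h1
  exact h1

theorem phi_one_eq (χ : IrrCharacter G) : phi D s χ 1 = (fix D s χ : ℂ) := by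
  rw [S.phi_eq, fix, Nat.cast_sum]
  simp only [irrH_one, mul_one]

theorem fix_eq (χ : IrrCharacter G) : (p : ℂ) * (fix D s χ : ℂ)
    = (χ : G → ℂ) 1 + ∑ a ∈ Finset.univ.erase (0 : ZMod p), (χ : G → ℂ) (D.x ^ a.val) := by
  rw [← S.phi_one_eq, phi_one]

theorem sum_phi (χ : IrrCharacter G) :
    ∑ h, phi D s χ h = (q : ℂ) * (coef D s χ (triv _) : ℂ) := by
  rw [← S.coef_spec, Cfsg.classInner, S.card_H, ← mul_assoc,
    mul_inv_cancel₀ (Nat.cast_ne_zero.2 (by have := S.two_le_q; omega)), one_mul]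
  simp [triv]

theorem sum_phi_sq (χ : IrrCharacter G) :
    ∑ h, phi D s χ h * conj (phi D s χ h) = (q : ℂ) * ∑ μ, ((coef D s χ μ : ℂ) * (coef D s χ μ : ℂ)) := by
  have h1 : classInner (phi D s χ) (phi D s χ) = ∑ μ, ((coef D s χ μ : ℂ) * (coef D s χ μ : ℂ)) := by
    rw [classInner_eq_sum_irr (isClassFunction_H _)]
    refine Finset.sum_congr rfl fun μ _ => ?_
    rw [← classInner_conj_symm (phi D s χ), S.coef_spec, map_natCast]
  rw [← h1, Cfsg.classInner, S.card_H, ← mul_assoc,
    mul_inv_cancel₀ (Nat.cast_ne_zero.2 (by have := S.two_le_q; omega)), one_mul]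

/-- Reciprocity for the trivial character of the normalizer. -/
theorem sum_degree_coef :
    ∑ χ : IrrCharacter G, (χ : G → ℂ) 1 * (coef D s χ (triv _) : ℂ) = 1 + (n : ℂ) * p := by
  have hq0 : (q : ℂ) ≠ 0 := Nat.cast_ne_zero.2 (by have := S.two_le_q; omega)
  refine mul_left_cancel₀ hq0 ?_
  rw [Finset.mul_sum, Finset.sum_congr rfl (g := fun χ : IrrCharacter G =>
    ∑ h : Subgroup.zpowers s, ∑ a : ZMod p, (p : ℂ)⁻¹ * ((χ : G → ℂ) 1 * (χ : G → ℂ) (D.x ^ a.val * (h : G)))) fun χ _ => ?_,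
    Finset.sum_comm, Finset.sum_congr rfl fun h _ => Finset.sum_comm]
  · have hin : ∀ h : Subgroup.zpowers s, ∑ a : ZMod p,
        ∑ χ : IrrCharacter G, (χ : G → ℂ) 1 * (χ : G → ℂ) (D.x ^ a.val * (h : G))
          = if h = 1 then (Nat.card G : ℂ) else 0 := by
      intro h
      simp only [regular_eq_sum_irr]
      by_cases h1 : h = 1
      · rw [if_pos h1, h1, Fintype.sum_eq_single (0 : ZMod p) fun a ha => if_neg ?_]
        · simp
        · rw [OneMemClass.coe_one, mul_one]
          exact fun e => ha (D.xpow_inj (by rw [e, ZMod.val_zero, pow_zero]))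
      · rw [if_neg h1]
        refine Finset.sum_eq_zero fun a _ => if_neg fun e => h1 (Subtype.ext (S.eq_one_of_mem h.2 ?_))
        rw [show (h : G) = (D.x ^ a.val)⁻¹ from eq_inv_of_mul_eq_one_right e]
        exact inv_mem (pow_mem D.x_mem _)
    simp only [← Finset.mul_sum, hin, Finset.sum_ite_eq', Finset.mem_univ, if_true, S.card_G]
    push_cast
    field_simp [hp.out.ne_zero]
  · rw [mul_comm ((χ : G → ℂ) 1), ← mul_assoc, ← S.sum_phi, Finset.sum_mul]
    refine Finset.sum_congr rfl fun h _ => ?_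
    simp only [phi, Finset.mul_sum, Finset.sum_mul]
    exact Finset.sum_congr rfl fun a _ => by ring

end Setting

end CfsgLib.Char.FewSylow
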