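import Cfsg.Agent.Lib.Char.FewSylow.Arith
import Cfsg.Agent.Lib.Char.FewSylow.Basic
import Cfsg.Agent.Lib.Blocks.DefectOne
import Cfsg.Agent.Lib.Blocks.DefectOneGalois
import Cfsg.Agent.Lib.Blocks.DefectOneCount
import Cfsg.Agent.Lib.Blocks.Eigen
import Cfsg.Agent.S4508

/-!
# Brauer's theorem on few Sylow subgroups: the principal block

Besides the trivial character there are the characters of degree `1 + n * p` and of degree `p - 1`
with the values `1` and `-1` at the elements of order `p`, and the `t` exceptional characters.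
-/

set_option autoImplicit false

namespace CfsgLib.Char.FewSylow

open Cfsg CfsgLib.Blocks CfsgLib.Blocks.DefectOne
open scoped Classical ComplexConjugate

variable {G : Type*} [Group G] [Fintype G] {p : ℕ} [hp : Fact p.Prime] {P : Sylow p G} {D : Frame P}
  {q t n : ℕ} {s : G}

omit hp in
theorem triv_apply (g : G) : (triv G : G → ℂ) g = 1 := rfl

omit hp in
theorem eq_triv_of_degree_one (hperf : commutator G = ⊤) (χ : IrrCharacter G)
    (h : charDegree (χ : G → ℂ) = 1) : χ = triv G := by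
  obtain ⟨f, hf⟩ := exists_hom_of_apply_one_eq_one (isCharacter_irr χ) (by rw [irr_one_eq, h, Nat.cast_one])
  refine Subtype.ext (funext fun g => ?_)
  have : f g = 1 := MonoidHom.mem_ker.1 (Abelianization.commutator_subset_ker f (hperf ▸ Subgroup.mem_top g))
  rw [hf, triv_apply]
  show (f g : ℂ) = 1
  rw [this, Units.val_one]

omit hp in
theorem triv_degree : charDegree (triv G : G → ℂ) = 1 := by
  have h := irr_one_eq (triv G)
  rw [triv_apply] at h
  exact_mod_cast h.symm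

namespace Setting

variable (S : Setting D q t n s)
include S

theorem three_le_p : 3 ≤ p := by have := S.q_lt; have := S.two_le_q; omega

theorem one_le_t : 1 ≤ t := by
  by_contra h
  have h1 := S.hqt
  have := S.three_le_p
  obtain rfl : t = 0 := by omega
  omega

theorem hqt' : (q : ℤ) * t = (p : ℤ) - 1 := by
  have := hp.out.one_le
  rw [← Nat.cast_mul, S.hqt, Nat.cast_sub this, Nat.cast_one]

/-- The degree of a character is a divisor of `q * (1 + n * p)` when it is prime to `p`. -/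
theorem deg_dvd (χ : IrrCharacter G) (hχ : ¬ p ∣ charDegree (χ : G → ℂ)) :
    charDegree (χ : G → ℂ) ∣ q * (1 + n * p) := by
  have h : charDegree (χ : G → ℂ) ∣ Nat.card G := charDegree_dvd χ
  rw [S.card_G, mul_assoc] at h
  exact ((Nat.coprime_comm.1 ((Nat.Prime.coprime_iff_not_dvd hp.out).2 hχ))).dvd_of_dvd_mul_left h

theorem sq_deg_lt (χ : IrrCharacter G) (hχ : χ ≠ triv G) :
    (charDegree (χ : G → ℂ) : ℤ) * charDegree (χ : G → ℂ) < (p : ℤ) * q * (1 + n * p) := by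
  have h := sum_sq_apply_one (G := G)
  simp only [irr_one_eq] at h
  have h' : ∑ ψ : IrrCharacter G, charDegree (ψ : G → ℂ) ^ 2 = Nat.card G := by exact_mod_cast h
  have h2 : charDegree (χ : G → ℂ) ^ 2 + charDegree (triv G : G → ℂ) ^ 2 ≤ Nat.card G := by
    rw [← h', ← Finset.sum_pair (f := fun ψ : IrrCharacter G => charDegree (ψ : G → ℂ) ^ 2) hχ]
    exact Finset.sum_le_sum_of_subset (Finset.subset_univ _)
  rw [triv_degree, S.card_G, one_pow, sq] at h2
  have h3 : charDegree (χ : G → ℂ) * charDegree (χ : G → ℂ) < p * q * (1 + n * p) := h2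
  exact_mod_cast h3

/-- The degree of a character with constant value `1` or `-1` at the elements of order `p`. -/
theorem deg_of_val (χ : IrrCharacter G) (hχ : χ ≠ triv G) {δ : ℤ} (hδ : δ = 1 ∨ δ = -1)
    (hval : ∀ a : ZMod p, a ≠ 0 → (χ : G → ℂ) (D.x ^ a.val) = δ) :
    (δ = 1 ∧ charDegree (χ : G → ℂ) = 1 + n * p) ∨ (δ = -1 ∧ charDegree (χ : G → ℂ) + 1 = p) := by
  have hfix := S.fix_eq χ
  rw [Finset.sum_congr rfl fun a ha => hval a (Finset.ne_of_mem_erase ha), Finset.sum_const,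
    Finset.card_erase_of_mem (Finset.mem_univ _), Finset.card_univ, ZMod.card, nsmul_eq_mul, irr_one_eq] at hfix
  have hfix' : (p : ℤ) * fix D s χ = (charDegree (χ : G → ℂ) : ℤ) + ((p - 1 : ℕ) : ℤ) * δ := by
    exact_mod_cast hfix
  rw [Nat.cast_sub hp.out.one_le, Nat.cast_one] at hfix'
  set f := charDegree (χ : G → ℂ) with hf
  have hf1 : f ≠ 1 := fun h => hχ (eq_triv_of_degree_one S.perf χ h)
  have hf0 : 0 < f := charDegree_pos χ
  have hnd : ¬ p ∣ f := by
    intro hd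
    have h1 : (p : ℤ) ∣ δ := by
      obtain ⟨c, hc⟩ := hd
      refine ⟨δ + (c : ℤ) - fix D s χ, ?_⟩
      rw [hc] at hfix'
      push_cast at hfix'
      linear_combination hfix'
    rcases hδ with h | h <;> rw [h] at h1
    · exact hp.out.not_dvd_one (Int.natCast_dvd_natCast.1 h1)
    · exact hp.out.not_dvd_one (Int.natCast_dvd_natCast.1 ((Int.dvd_neg (b := 1)).1 h1))
  obtain ⟨g, hg⟩ := S.deg_dvd χ hnd
  rw [← hf] at hg
  have hg0 : 0 < g := by
    by_contra hc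
    obtain rfl : g = 0 := by omega
    rw [mul_zero] at hg
    rcases Nat.mul_eq_zero.1 hg with h | h
    · have := S.two_le_q; omega
    · omega
  have hg' : (g : ℤ) * f = (q : ℤ) * (1 + n * p) := by
    rw [mul_comm]; exact_mod_cast hg.symm
  have hq0 : (0 : ℤ) < q := by have := S.two_le_q; omega
  have hp3 : (3 : ℤ) ≤ p := by exact_mod_cast S.three_le_p
  have ht1 : (1 : ℤ) ≤ t := by exact_mod_cast S.one_le_t
  rcases hδ with h | h <;> rw [h] at hfix'
  · refine Or.inl ⟨h, ?_⟩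
    have hu : (1 : ℤ) ≤ (fix D s χ : ℤ) - 1 := by
      by_contra hc
      have hf2 : (2 : ℤ) ≤ f := by omega
      have : (fix D s χ : ℤ) ≤ 1 := by omega
      nlinarith
    have := deg_plus (by omega) hq0 ht1 S.hqt' S.notRep (f := (f : ℤ)) hu (by linear_combination -hfix')
      (by exact_mod_cast hg0) hg'
    exact_mod_cast this
  · refine Or.inr ⟨h, ?_⟩
    have hu : (1 : ℤ) ≤ (fix D s χ : ℤ) + 1 := by omega
    rcases deg_minus hp3 hq0 ht1 S.hqt' (Nat.cast_nonneg n) S.notRep (f := (f : ℤ)) hu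
      (by linear_combination -hfix') (by exact_mod_cast hg0) hg' with h1 | ⟨h1, h2⟩
    · omega
    · exfalso
      have hqt := S.hqt'
      have hsq := S.sq_deg_lt χ hχ
      rw [h1, mul_one] at hqt
      rw [← hf, h2] at hsq
      have hX : (p : ℤ) + 1 ≤ 1 + (n : ℤ) * p := by
        have : (1 : ℤ) ≤ n := by exact_mod_cast S.one_le_n
        nlinarith
      have h3 : (p : ℤ) ≤ q * (1 + n * p) := by nlinarith
      nlinarith [mul_le_mul_of_nonneg_right h3 (show (0 : ℤ) ≤ q * (1 + n * p) by nlinarith)]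

theorem centralizer_x : Subgroup.centralizer ({D.x} : Set G) = Subgroup.zpowers D.x := by
  refine le_antisymm (fun c hc => ?_) (Subgroup.zpowers_le.2 (Subgroup.mem_centralizer_singleton_iff.2 rfl))
  rw [D.zp]
  exact SelfCent.mem_of_commute_x S.hK (Subgroup.mem_centralizer_singleton_iff.1 hc)

/-- A character of degree `p - 1` makes the number of classes even. -/
theorem even_t (χ : IrrCharacter G) (hχ : charDegree (χ : G → ℂ) + 1 = p) : Even t := by
  have hcl := SelfCent.card_classes_mul D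
  rw [S.hq] at hcl
  have hte : Nat.card {C : ConjClasses G // ∃ g ∈ C.carrier, orderOf g = p} = t := by
    refine Nat.eq_of_mul_eq_mul_right (show 0 < q by have := S.two_le_q; omega) ?_
    rw [hcl, ← S.hqt, mul_comm]
  refine (Cfsg.Agent.S4508.result p hp.out D.x D.ord S.centralizer_x t hte χ hχ).resolve_right ?_
  rw [S.perf, Subgroup.index_top]
  exact Nat.not_even_one

end Setting

/-- The characters that do not vanish at the elements of order `p`. -/
structure Config (D : Frame P) (q t n : ℕ) where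
  Xp : Finset (IrrCharacter G)
  Xm : Finset (IrrCharacter G)
  Y : Finset (IrrCharacter G)
  A : ℤ
  e : ℕ
  sgn_A : A = 1 ∨ A = -1
  d_pm : Disjoint Xp Xm
  d_pY : Disjoint Xp Y
  d_mY : Disjoint Xm Y
  one_p : triv G ∉ Xp
  one_m : triv G ∉ Xm
  one_Y : triv G ∉ Y
  card_X : 1 + Xp.card + Xm.card = q
  card_Y : Y.card = t
  two_le_t : 2 ≤ t
  val_p : ∀ χ ∈ Xp, ∀ a : ZMod p, a ≠ 0 → (χ : G → ℂ) (D.x ^ a.val) = 1
  deg_p : ∀ χ ∈ Xp, charDegree (χ : G → ℂ) = 1 + n * p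
  val_m : ∀ χ ∈ Xm, ∀ a : ZMod p, a ≠ 0 → (χ : G → ℂ) (D.x ^ a.val) = -1
  deg_m : ∀ χ ∈ Xm, charDegree (χ : G → ℂ) + 1 = p
  deg_Y : ∀ η ∈ Y, charDegree (η : G → ℂ) = e
  sum_Y : ∀ η ∈ Y, ∑ a ∈ Finset.univ.erase (0 : ZMod p), (η : G → ℂ) (D.x ^ a.val) = (q : ℂ) * (A : ℂ)
  sq_Y : ∀ η ∈ Y, ∑ a ∈ Finset.univ.erase (0 : ZMod p), (η : G → ℂ) (D.x ^ a.val) * conj ((η : G → ℂ) (D.x ^ a.val))
    = (q : ℂ) * ((p : ℂ) - q)
  val_O : ∀ χ, χ ≠ triv G → χ ∉ Xp → χ ∉ Xm → χ ∉ Y → ∀ a : ZMod p, a ≠ 0 → (χ : G → ℂ) (D.x ^ a.val) = 0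
  agree : ∀ η ∈ Y, ∀ η' ∈ Y, ∀ g : G, ¬ p ∣ orderOf g → (η : G → ℂ) g = (η' : G → ℂ) g
  rel : ∀ η ∈ Y, ∀ g : G, ¬ p ∣ orderOf g →
    1 + ∑ χ ∈ Xp, (χ : G → ℂ) g - ∑ χ ∈ Xm, (χ : G → ℂ) g + (A : ℂ) * (η : G → ℂ) g = 0

theorem exists_config (S : Setting D q t n s) : Nonempty (Config D q t n) := by
  obtain ⟨M, hM⟩ := exists_isPModular hp.out
  have hK := S.hK
  let θ : IrrCharacter D.K0 := triv D.K0
  obtain ⟨B, hind⟩ := D.exists_induced hM θ
  obtain ⟨T⟩ := exists_shape D hM hind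
  have hsec : ∀ χ a, D.sec θ χ a = (χ : G → ℂ) (D.x ^ a.val) := fun χ a => Cfsg.Agent.S4508.sec_eq hK θ χ a
  have horb : (D.orb θ).card = 1 := Finset.card_eq_one.2 ⟨θ, Finset.eq_singleton_iff_unique_mem.2
    ⟨D.self_mem_orb θ, fun θ' _ => Subtype.ext (funext fun y => by
      rw [Cfsg.Agent.S4508.theta_eq_one hK, Cfsg.Agent.S4508.theta_eq_one hK])⟩⟩
  have hcard : Nat.card (D.autE θ) = q := by
    have h := D.card_orb_mul θ
    rw [horb, one_mul] at h
    exact h.trans S.hq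
  have hq0 : 0 < q := by have := S.two_le_q; omega
  have hcX : T.X.card = q := T.card_X.trans hcard
  have hcY : T.Y.card = t := by
    have h := T.card_Y
    rw [hcard, ← S.hqt] at h
    exact Nat.eq_of_mul_eq_mul_left hq0 h
  have hdisj : ∀ χ ∈ T.X, χ ∉ T.Y := fun χ h => Finset.disjoint_left.1 T.disj h
  have hvX : ∀ χ ∈ T.X, ∀ a : ZMod p, a ≠ 0 → (χ : G → ℂ) (D.x ^ a.val) = (T.sgn χ : ℂ) := fun χ hχ a ha => by
    rw [← hsec]; exact T.sec_X χ hχ a ha
  have hvO : ∀ χ, χ ∉ T.X → χ ∉ T.Y → ∀ a : ZMod p, a ≠ 0 → (χ : G → ℂ) (D.x ^ a.val) = 0 := by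
    intro χ h1 h2 a ha
    rw [← hsec]
    exact D.sec_eq_zero_of_notMem hM hind (fun h => ((T.mem_iff χ).1 h).elim h1 h2) ha
  have hXY : ∀ (F : IrrCharacter G → ℂ), (∀ χ, χ ∉ T.X → χ ∉ T.Y → F χ = 0) →
      ∑ χ, F χ = ∑ χ ∈ T.X, F χ + ∑ η ∈ T.Y, F η := by
    intro F hF
    rw [← Finset.sum_union T.disj]
    exact (Finset.sum_subset (Finset.subset_univ _) fun χ _ hχ => by
      rw [Finset.mem_union, not_or] at hχ; exact hF χ hχ.1 hχ.2).symm
  obtain ⟨η₀, hη₀⟩ : ∃ η, η ∈ T.Y := ⟨T.ζ 1, (T.mem_Y _).2 ⟨1, rfl⟩⟩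
  have h1reg : ¬ p ∣ orderOf (1 : G) := Setting.regular_one
  set e := charDegree (η₀ : G → ℂ) with he
  have hdegY : ∀ η ∈ T.Y, charDegree (η : G → ℂ) = e := fun η hη => by
    have h := T.agree η hη η₀ hη₀ 1 h1reg
    simp only [irr_one_eq] at h
    exact_mod_cast h
  -- the sum over the exceptional characters
  have hsumY : ∀ a : ZMod p, a ≠ 0 → ∑ η ∈ T.Y, (η : G → ℂ) (D.x ^ a.val) = (T.A : ℂ) := by
    intro a ha
    have h := D.sum_sec_mul_apply θ ha h1reg
    simp only [hsec] at h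
    rw [hXY _ fun χ h1 h2 => by rw [hvO χ h1 h2 a ha, zero_mul],
      Finset.sum_congr rfl (s₁ := T.X) fun χ hχ => by rw [hvX χ hχ a ha],
      Finset.sum_congr rfl (s₁ := T.Y) (g := fun η => (η : G → ℂ) (D.x ^ a.val) * (e : ℂ))
        fun η hη => by rw [irr_one_eq η, hdegY η hη], ← Finset.sum_mul] at h
    have h2 := T.rel η₀ hη₀ 1 h1reg
    rw [irr_one_eq η₀, ← he] at h2
    have he0 : (e : ℂ) ≠ 0 := Nat.cast_ne_zero.2 (charDegree_pos η₀).ne'
    refine mul_right_cancel₀ he0 ?_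
    linear_combination h - h2
  -- the exceptional characters are permuted transitively
  have hshift : ∀ k, ∀ a : ZMod p, a ≠ 0 →
      (T.ζ k : G → ℂ) (D.x ^ a.val) = (T.ζ 1 : G → ℂ) (D.x ^ ((k : ZMod p) * a).val) := by
    intro k a ha
    rw [← hsec, ← hsec, T.sec_Y k a ha, T.sec_Y 1 _ (mul_ne_zero (Units.ne_zero k) ha)]
    congr 2
    refine Finset.sum_bij' (fun l _ => k⁻¹ * l) (fun l _ => k * l) (fun l hl => ?_) (fun l hl => ?_)
      (fun l _ => mul_inv_cancel_left k l) (fun l _ => inv_mul_cancel_left k l) fun l _ => ?_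
    · simp only [Finset.mem_filter, Finset.mem_univ, true_and] at hl ⊢
      have h := (T.ζ_iff k l).1 hl.symm
      exact ((T.ζ_iff 1 _).2 (by rwa [inv_one, one_mul])).symm
    · simp only [Finset.mem_filter, Finset.mem_univ, true_and] at hl ⊢
      have h := (T.ζ_iff 1 l).1 hl.symm
      rw [inv_one, one_mul] at h
      exact ((T.ζ_iff k _).2 (by rwa [inv_mul_cancel_left])).symm
    · congr 1
      rw [show ((k⁻¹ * l : (ZMod p)ˣ) : ZMod p) * ((k : ZMod p) * a) = ((k⁻¹ * l * k : (ZMod p)ˣ) : ZMod p) * a by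
        simp only [Units.val_mul, mul_assoc], mul_comm (k⁻¹ * l) k, mul_inv_cancel_left]
  have hinv : ∀ (F : ℂ → ℂ), ∀ η ∈ T.Y, (t : ℂ) * ∑ a ∈ Finset.univ.erase (0 : ZMod p), F ((η : G → ℂ) (D.x ^ a.val))
      = ∑ a ∈ Finset.univ.erase (0 : ZMod p), ∑ η' ∈ T.Y, F ((η' : G → ℂ) (D.x ^ a.val)) := by
    intro F η hη
    have hk : ∀ η' ∈ T.Y, ∑ a ∈ Finset.univ.erase (0 : ZMod p), F ((η' : G → ℂ) (D.x ^ a.val))
        = ∑ a ∈ Finset.univ.erase (0 : ZMod p), F ((T.ζ 1 : G → ℂ) (D.x ^ a.val)) := by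
      intro η' hη'
      obtain ⟨k, rfl⟩ := (T.mem_Y η').1 hη'
      refine Finset.sum_equiv (Units.mulLeft k) (fun a => ?_) fun a ha => ?_
      · simp
      · rw [hshift k a (Finset.ne_of_mem_erase ha)]; rfl
    rw [Finset.sum_comm, Finset.sum_congr rfl hk, Finset.sum_const, hcY, nsmul_eq_mul, hk η hη]
  have hpq : ((p - 1 : ℕ) : ℂ) = (q : ℂ) * t := by rw [← S.hqt, Nat.cast_mul]
  have ht0 : (t : ℂ) ≠ 0 := Nat.cast_ne_zero.2 (by have := S.one_le_t; omega)
  have hsum' : ∀ η ∈ T.Y, ∑ a ∈ Finset.univ.erase (0 : ZMod p), (η : G → ℂ) (D.x ^ a.val) = (q : ℂ) * (T.A : ℂ) := by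
    intro η hη
    refine mul_left_cancel₀ ht0 ?_
    rw [hinv (fun z => z) η hη, Finset.sum_congr rfl fun a ha => hsumY a (Finset.ne_of_mem_erase ha),
      Finset.sum_const, Finset.card_erase_of_mem (Finset.mem_univ _), Finset.card_univ, ZMod.card, nsmul_eq_mul, hpq]
    ring
  have hsq' : ∀ η ∈ T.Y, ∑ a ∈ Finset.univ.erase (0 : ZMod p),
      (η : G → ℂ) (D.x ^ a.val) * conj ((η : G → ℂ) (D.x ^ a.val)) = (q : ℂ) * ((p : ℂ) - q) := by
    intro η hη
    refine mul_left_cancel₀ ht0 ?_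
    rw [hinv (fun z => z * conj z) η hη, Finset.sum_congr rfl (g := fun _ : ZMod p => (p : ℂ) - q) fun a ha => ?_,
      Finset.sum_const, Finset.card_erase_of_mem (Finset.mem_univ _), Finset.card_univ, ZMod.card, nsmul_eq_mul, hpq]
    · ring
    have ha0 := Finset.ne_of_mem_erase ha
    have h := D.sum_sec_mul_conj θ (Units.mk0 a ha0) (Units.mk0 a ha0)
    rw [if_pos (by rw [mul_inv_cancel]; exact one_mem _)] at h
    simp only [hsec, Units.val_mk0] at h
    rw [hXY _ fun χ h1 h2 => by rw [hvO χ h1 h2 a ha0, zero_mul],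
      Finset.sum_congr rfl (s₁ := T.X) (g := fun _ => (1 : ℂ)) fun χ hχ => by
        rw [hvX χ hχ a ha0, map_intCast, ← Int.cast_mul]
        rcases T.sgn_X χ hχ with hh | hh <;> rw [hh] <;> norm_num,
      Finset.sum_const, hcX, nsmul_eq_mul, mul_one] at h
    linear_combination h
  -- there are at least two exceptional characters
  have ht2 : 2 ≤ t := by
    by_contra hc
    obtain rfl : t = 1 := by have := S.one_le_t; omega
    obtain ⟨η₁, hη₁⟩ := Finset.card_eq_one.1 hcY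
    obtain ⟨χ, hχ, σ, hσ, hval⟩ : ∃ χ : IrrCharacter G, χ ≠ triv G ∧ ∃ σ : ℤ, σ = -1 ∧
        ∀ a : ZMod p, a ≠ 0 → (χ : G → ℂ) (D.x ^ a.val) = σ := by
      by_contra hno
      push Not at hno
      have hne : ∀ χ : IrrCharacter G, ∀ a : ZMod p, a ≠ 0 → (χ : G → ℂ) (D.x ^ a.val) = ((-1 : ℤ) : ℂ) → χ ≠ triv G :=
        fun χ a ha h e => by rw [e, triv_apply] at h; norm_num at h
      have hA : T.A = 1 := T.sgn_A.resolve_right fun hA => by
        have hv : ∀ a : ZMod p, a ≠ 0 → (η₁ : G → ℂ) (D.x ^ a.val) = ((-1 : ℤ) : ℂ) := fun a ha => by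
          have h := hsumY a ha
          rw [hη₁, Finset.sum_singleton] at h
          rw [h, hA]
        obtain ⟨a, ha, hv'⟩ := hno η₁ (hne η₁ 1 one_ne_zero (hv 1 one_ne_zero)) (-1) rfl
        exact hv' (hv a ha)
      have hpos : ∀ χ ∈ T.X, T.sgn χ = 1 := fun χ hχ => (T.sgn_X χ hχ).resolve_right fun hs => by
        have hv : ∀ a : ZMod p, a ≠ 0 → (χ : G → ℂ) (D.x ^ a.val) = ((-1 : ℤ) : ℂ) := fun a ha => by
          rw [hvX χ hχ a ha, hs]
        obtain ⟨a, ha, hv'⟩ := hno χ (hne χ 1 one_ne_zero (hv 1 one_ne_zero)) (-1) rfl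
        exact hv' (hv a ha)
      have h2 := T.rel η₀ hη₀ 1 h1reg
      rw [Finset.sum_congr rfl (g := fun χ : IrrCharacter G => (charDegree (χ : G → ℂ) : ℂ)) fun χ hχ => by
        rw [hpos χ hχ, irr_one_eq, Int.cast_one, one_mul], irr_one_eq η₀, hA, Int.cast_one, one_mul,
        ← Nat.cast_sum, ← Nat.cast_add, Nat.cast_eq_zero] at h2
      have := charDegree_pos η₀
      omega
    rcases S.deg_of_val χ hχ (Or.inr hσ) hval with ⟨h, -⟩ | ⟨-, h⟩
    · rw [hσ] at h; norm_num at h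
    · exact Nat.not_even_one (S.even_t χ h)
  have hp5 : 5 ≤ p := by
    have h1 := Nat.mul_le_mul S.two_le_q ht2
    have := S.hqt
    omega
  -- the trivial character
  have h1X : triv G ∈ T.X := by
    by_contra h1
    have h2 : triv G ∈ T.Y := by
      by_contra h2
      have h := hvO _ h1 h2 1 one_ne_zero
      rw [triv_apply] at h
      exact one_ne_zero h
    obtain ⟨η', hη', hne⟩ := Finset.exists_mem_ne (s := T.Y) (by omega) (triv G)
    refine hne (eq_triv_of_degree_one S.perf η' ?_)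
    rw [hdegY η' hη', ← hdegY _ h2, triv_degree]
  have hs1 : T.sgn (triv G) = 1 := by
    have h := hvX _ h1X 1 one_ne_zero
    rw [triv_apply] at h
    exact_mod_cast h.symm
  set Xp := T.X.filter fun χ => χ ≠ triv G ∧ T.sgn χ = 1 with hXp
  set Xm := T.X.filter fun χ => χ ≠ triv G ∧ T.sgn χ = -1 with hXm
  have hmemp : ∀ χ, χ ∈ Xp ↔ χ ∈ T.X ∧ χ ≠ triv G ∧ T.sgn χ = 1 := fun χ => by simp [hXp]
  have hmemm : ∀ χ, χ ∈ Xm ↔ χ ∈ T.X ∧ χ ≠ triv G ∧ T.sgn χ = -1 := fun χ => by simp [hXm]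
  have hpm : Disjoint Xp Xm := Finset.disjoint_left.2 fun χ h1 h2 => by
    have := ((hmemp χ).1 h1).2.2.symm.trans ((hmemm χ).1 h2).2.2
    norm_num at this
  have hsplit : T.X = insert (triv G) (Xp ∪ Xm) := by
    ext χ
    rw [Finset.mem_insert, Finset.mem_union, hmemp, hmemm]
    constructor
    · intro h
      by_cases h1 : χ = triv G
      · exact Or.inl h1
      · exact Or.inr ((T.sgn_X χ h).imp (fun hs => ⟨h, h1, hs⟩) fun hs => ⟨h, h1, hs⟩)
    · rintro (rfl | h | h)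
      · exact h1X
      · exact h.1
      · exact h.1
  have hnot : triv G ∉ Xp ∪ Xm := by
    rw [Finset.mem_union, hmemp, hmemm]
    rintro (⟨-, h, -⟩ | ⟨-, h, -⟩) <;> exact h rfl
  have hvp : ∀ χ ∈ Xp, ∀ a : ZMod p, a ≠ 0 → (χ : G → ℂ) (D.x ^ a.val) = 1 := fun χ hχ a ha => by
    rw [hvX χ ((hmemp χ).1 hχ).1 a ha, ((hmemp χ).1 hχ).2.2, Int.cast_one]
  have hvm : ∀ χ ∈ Xm, ∀ a : ZMod p, a ≠ 0 → (χ : G → ℂ) (D.x ^ a.val) = -1 := fun χ hχ a ha => by
    rw [hvX χ ((hmemm χ).1 hχ).1 a ha, ((hmemm χ).1 hχ).2.2, Int.cast_neg, Int.cast_one]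
  refine ⟨⟨Xp, Xm, T.Y, T.A, e, T.sgn_A, hpm,
    Finset.disjoint_left.2 fun χ h => hdisj χ ((hmemp χ).1 h).1,
    Finset.disjoint_left.2 fun χ h => hdisj χ ((hmemm χ).1 h).1,
    fun h => hnot (Finset.mem_union_left _ h), fun h => hnot (Finset.mem_union_right _ h), hdisj _ h1X, ?_, hcY,
    ht2, hvp, fun χ hχ => ?_, hvm, fun χ hχ => ?_, hdegY, hsum', hsq', fun χ h1 hnp hnm hnY a ha => ?_, T.agree,
    fun η hη g hg => ?_⟩⟩
  · rw [← hcX, hsplit, Finset.card_insert_of_notMem hnot, Finset.card_union_of_disjoint hpm]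
    ring
  · rcases S.deg_of_val χ ((hmemp χ).1 hχ).2.1 (Or.inl rfl)
      (fun a ha => by rw [hvp χ hχ a ha, Int.cast_one]) with ⟨-, h⟩ | ⟨h, -⟩
    · exact h
    · norm_num at h
  · rcases S.deg_of_val χ ((hmemm χ).1 hχ).2.1 (Or.inr rfl)
      (fun a ha => by rw [hvm χ hχ a ha]; norm_num) with ⟨h, -⟩ | ⟨-, h⟩
    · norm_num at h
    · exact h
  · refine hvO χ (fun h => ?_) hnY a ha
    rw [hsplit, Finset.mem_insert, Finset.mem_union] at h
    rcases h with h | h | h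
    exacts [h1 h, hnp h, hnm h]
  · have h := T.rel η hη g hg
    rw [hsplit, Finset.sum_insert hnot, Finset.sum_union hpm, hs1, Int.cast_one, one_mul, triv_apply,
      Finset.sum_congr rfl (s₁ := Xp) (g := fun χ : IrrCharacter G => (χ : G → ℂ) g) fun χ hχ => by
        rw [((hmemp χ).1 hχ).2.2, Int.cast_one, one_mul],
      Finset.sum_congr rfl (s₁ := Xm) (g := fun χ : IrrCharacter G => -(χ : G → ℂ) g) fun χ hχ => by
        rw [((hmemm χ).1 hχ).2.2, Int.cast_neg, Int.cast_one, neg_one_mul], Finset.sum_neg_distrib] at h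
    linear_combination h

end CfsgLib.Char.FewSylow
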