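import Cfsg.Agent.Lib.Char.FewSylow.Config
import Mathlib.GroupTheory.Transfer

/-!
# A Sylow subgroup of prime order: the `p'`-part of the centralizer

The central characters at the elements of order `p` show that the degrees in the principal block
divide `q * (1 + n * p)`. Unless `n` is `(h u p + u ^ 2 + u + h) / (u + 1)`, this gives a character
of degree `p - 1` with the value `-1` at the singular elements of the centralizer, and the
`p'`-part of the centralizer lies in its kernel.
-/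

set_option autoImplicit false

open scoped Classical

namespace CfsgLib.Char.FewSylow

open Cfsg CfsgLib.Blocks CfsgLib.Blocks.DefectOne

variable {G : Type*} [Group G] [Fintype G] {p : ℕ} [hp : Fact p.Prime] {P : Sylow p G}

/-- In a perfect group the normalizer acts nontrivially. -/
theorem two_le_range (D : Frame P) (hperf : commutator G = ⊤) : 2 ≤ Nat.card D.act.range := by
  by_contra hc
  have h1 : Nat.card D.act.range = 1 := by have := (range_pos_lt D).1; omega
  have hN : Subgroup.normalizer ((P : Subgroup G) : Set G) ≤ Subgroup.centralizer ((P : Subgroup G) : Set G) :=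
    fun g hg => (D.act_eq_one_iff ⟨g, hg⟩).1 ((Subgroup.eq_bot_iff_forall _).1 (Subgroup.card_eq_one.1 h1)
      (D.act ⟨g, hg⟩) ⟨_, rfl⟩)
  set K := (MonoidHom.transferSylow P hN).ker with hKdef
  haveI : IsMulCommutative (P : Subgroup G) :=
    ⟨⟨fun a b => Subtype.ext (hN (Subgroup.le_normalizer b.2) a a.2)⟩⟩
  have hle : commutator G ≤ K := by
    rw [commutator_def, Subgroup.commutator_le]
    intro g _ h _
    rw [hKdef, MonoidHom.mem_ker, map_commutatorElement, commutatorElement_eq_one_iff_commute]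
    exact IsMulCommutative.is_comm.comm (MonoidHom.transferSylow P hN g) (MonoidHom.transferSylow P hN h)
  have hnd : ¬ p ∣ Nat.card K := MonoidHom.not_dvd_card_ker_transferSylow P hN
  rw [show K = ⊤ from eq_top_iff.2 (hperf ▸ hle), Subgroup.card_top] at hnd
  exact hnd (D.ord ▸ orderOf_dvd_natCard D.x)

theorem exists_index (D : Frame P) (hperf : commutator G = ⊤) :
    ∃ n, 1 ≤ n ∧ (nrm P).index = 1 + n * p := by
  have hidx : Nat.card (Sylow p G) = (nrm P).index := P.card_eq_index_normalizer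
  obtain ⟨n, hn⟩ : ∃ n, (nrm P).index = 1 + n * p := by
    refine ⟨Nat.card (Sylow p G) / p, ?_⟩
    rw [← hidx]
    conv_lhs => rw [← Nat.mod_add_div (Nat.card (Sylow p G)) p]
    rw [card_sylow_modEq_one p G, Nat.mod_eq_of_lt hp.out.one_lt, mul_comm]
  refine ⟨n, ?_, hn⟩
  by_contra hc
  obtain rfl : n = 0 := by omega
  have htop : nrm P = ⊤ := Subgroup.index_eq_one.1 (by omega)
  let f : G →* (ZMod p)ˣ :=
    D.act.comp ((MonoidHom.id G).codRestrict (nrm P) fun g => htop ▸ Subgroup.mem_top g)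
  have hker : f.ker = ⊤ := eq_top_iff.2 (hperf ▸ Abelianization.commutator_subset_ker f)
  have h2 := two_le_range D hperf
  have h1 : Nat.card D.act.range = 1 := by
    refine Subgroup.card_eq_one.2 ((Subgroup.eq_bot_iff_forall _).2 ?_)
    rintro _ ⟨m, rfl⟩
    exact MonoidHom.mem_ker.1 (show (m : G) ∈ f.ker from hker ▸ Subgroup.mem_top _)
  omega

theorem index_cent (D : Frame P) : (cent P).index = Nat.card D.act.range * (nrm P).index := by
  refine Nat.eq_of_mul_eq_mul_left (Nat.card_pos (α := cent P)) ?_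
  rw [Subgroup.card_mul_index, ← Subgroup.card_mul_index (nrm P), D.card_nrm]
  ring

/-- The central characters at the elements of order `p` bound the degrees. -/
theorem dvd_of_sum_apply_x (D : Frame P) (Y : Finset (IrrCharacter G)) {f : ℕ}
    (hY : ∀ χ ∈ Y, charDegree (χ : G → ℂ) = f) {a : ZMod p} (ha : a ≠ 0) {σ : ℤ} (hσ : σ = 1 ∨ σ = -1)
    (hsum : ∑ χ ∈ Y, (χ : G → ℂ) (D.x ^ a.val) = (σ : ℂ)) : f ∣ Nat.card D.act.range * (nrm P).index := by
  have hf : f ≠ 0 := by
    rcases Y.eq_empty_or_nonempty with rfl | ⟨χ, hχ⟩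
    · rw [Finset.sum_empty] at hsum
      rcases hσ with rfl | rfl <;> norm_num at hsum
    · exact hY χ hχ ▸ (charDegree_pos χ).ne'
  have hint : IsIntegral ℤ (∑ χ ∈ Y, centralChar (χ : G → ℂ) (D.x ^ a.val)) :=
    IsIntegral.sum _ fun χ _ => CfsgLib.Blocks.isIntegral_centralChar χ _
  rw [Finset.sum_congr rfl (g := fun χ : IrrCharacter G =>
      ((Nat.card D.act.range * (nrm P).index : ℕ) : ℂ) / (f : ℂ) * (χ : G → ℂ) (D.x ^ a.val)) fun χ hχ => by
    rw [centralChar, ← D.cent_eq_singleton ha, index_cent D, irr_one_eq χ, hY χ hχ]; ring,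
    ← Finset.mul_sum, hsum] at hint
  refine CfsgLib.Char.dvd_of_isIntegral_div hf ?_
  rcases hσ with rfl | rfl
  · simpa using hint
  · simpa using hint.neg

set_option maxHeartbeats 1000000 in
/-- Unless `n` is represented, a Sylow subgroup of a core-free perfect group is self-centralizing. -/
theorem K0_eq_bot (D : Frame P) (hperf : commutator G = ⊤) {n : ℕ} (hn : 1 ≤ n)
    (hidx : (nrm P).index = 1 + n * p) (hrep : NotRep (p : ℤ) (n : ℤ))
    (hcore : ∀ M : Subgroup G, M.Normal → ¬ p ∣ Nat.card M → M = ⊥) : D.K0 = ⊥ := by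
  obtain ⟨M, hM⟩ := exists_isPModular hp.out
  set q := Nat.card D.act.range with hq
  have hq2 : 2 ≤ q := two_le_range D hperf
  have hqp : q < p := (range_pos_lt D).2
  set θ : IrrCharacter D.K0 := triv D.K0 with hθ
  obtain ⟨B, hind⟩ := D.exists_induced hM θ
  obtain ⟨T⟩ := exists_shape D hM hind
  have hθd : charDegree (θ : D.K0 → ℂ) = 1 := triv_degree
  have horb : (D.orb θ) = {θ} := Finset.eq_singleton_iff_unique_mem.2 ⟨D.self_mem_orb θ, fun θ' hθ' => by
    obtain ⟨g, rfl⟩ := D.mem_orb.1 hθ'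
    exact Subtype.ext (funext fun y => by rw [D.tw_apply, hθ, triv_apply, triv_apply])⟩
  have hautE : Nat.card (D.autE θ) = q := by
    have h := D.card_orb_mul θ
    rw [horb, Finset.card_singleton, one_mul] at h
    exact h
  have hval : ∀ χ ∈ B, ∀ a : ZMod p, a ≠ 0 → ∀ y : D.K0, (χ : G → ℂ) (D.el a y : G) = D.sec θ χ a :=
    fun χ hχ a ha y => by
      rw [D.apply_el_orb hM hind hχ ha, horb, Finset.sum_singleton, hθ, triv_apply, mul_one]
  have hvalx : ∀ χ ∈ B, ∀ a : ZMod p, a ≠ 0 → (χ : G → ℂ) (D.x ^ a.val) = D.sec θ χ a := fun χ hχ a ha => by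
    have h := hval χ hχ a ha 1
    rwa [D.coe_el, OneMemClass.coe_one, mul_one] at h
  have hreg : ¬ p ∣ orderOf (1 : G) := by rw [orderOf_one]; exact hp.out.not_dvd_one
  set t := T.Y.card with ht
  obtain ⟨η, hη⟩ : ∃ η, η ∈ T.Y := ⟨T.ζ 1, (T.mem_Y _).2 ⟨1, rfl⟩⟩
  have ht1 : 1 ≤ t := Finset.card_pos.2 ⟨η, hη⟩
  have hqt : q * t = p - 1 := by
    have h := T.card_Y
    rwa [hautE] at h
  have hqtZ : (q : ℤ) * t = (p : ℤ) - 1 := by
    have := hp.out.one_le
    rw [← Nat.cast_mul, hqt, Nat.cast_sub this, Nat.cast_one]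
  have hp3 : (3 : ℤ) ≤ p := by omega
  have hX : (p : ℤ) + 1 ≤ 1 + (n : ℤ) * p := by
    have := Nat.le_mul_of_pos_left p (show 0 < n by omega)
    have h : (p : ℤ) ≤ (n : ℤ) * p := by exact_mod_cast this
    omega
  -- the signs and the degrees
  have hcase : ∀ χ ∈ B, χ ≠ triv G → ∀ σ : ℤ, (σ = 1 ∨ σ = -1) → (∀ a : ZMod p, a ≠ 0 → D.sec θ χ a = σ) →
      (charDegree (χ : G → ℂ) : ℤ) ≡ σ [ZMOD p] →
      (σ = 1 ∧ (charDegree (χ : G → ℂ) : ℤ) = 1 + n * p) ∨
        (σ = -1 ∧ ((charDegree (χ : G → ℂ) : ℤ) = p - 1 ∨ (t = 1 ∧ (1 + (n : ℤ) * p) ∣ charDegree (χ : G → ℂ)))) := by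
    intro χ hχ hne σ hσ hsec hmod
    obtain ⟨g, hg⟩ : charDegree (χ : G → ℂ) ∣ q * (1 + n * p) := by
      rw [← hidx]
      exact dvd_of_sum_apply_x D {χ} (fun χ' h => by rw [Finset.mem_singleton.1 h]) (one_ne_zero (α := ZMod p)) hσ
        (by rw [Finset.sum_singleton, hvalx χ hχ 1 one_ne_zero, hsec 1 one_ne_zero])
    have hf0 := charDegree_pos χ
    have hg0 : 0 < g := by
      by_contra hc
      obtain rfl : g = 0 := by omega
      rw [mul_zero] at hg
      have : 0 < q * (1 + n * p) := by positivity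
      omega
    have hg' : (g : ℤ) * charDegree (χ : G → ℂ) = (q : ℤ) * (1 + n * p) := by
      rw [mul_comm]; exact_mod_cast hg.symm
    have hf1 : charDegree (χ : G → ℂ) ≠ 1 := fun e => hne (eq_triv_of_degree_one hperf χ e)
    obtain ⟨u, hu⟩ := Int.modEq_iff_dvd.1 hmod.symm
    rcases hσ with rfl | rfl
    · refine Or.inl ⟨rfl, deg_plus (by omega) (by omega) (by exact_mod_cast ht1) hqtZ hrep
        (f := (charDegree (χ : G → ℂ) : ℤ)) (u := u) ?_ (by linear_combination hu) (by exact_mod_cast hg0) hg'⟩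
      by_contra hc
      have : (p : ℤ) * u ≤ 0 := mul_nonpos_of_nonneg_of_nonpos (by omega) (by omega)
      omega
    · have hu1 : 1 ≤ u := by
        by_contra hc
        have : (p : ℤ) * u ≤ 0 := mul_nonpos_of_nonneg_of_nonpos (by omega) (by omega)
        omega
      refine Or.inr ⟨rfl, ?_⟩
      rcases deg_minus hp3 (by omega) (by exact_mod_cast ht1) hqtZ (Nat.cast_nonneg n) hrep
        (f := (charDegree (χ : G → ℂ) : ℤ)) hu1 (by linear_combination hu) (by exact_mod_cast hg0) hg' with h | ⟨h1, h2⟩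
      · exact Or.inl h
      · exact Or.inr ⟨by exact_mod_cast h1, h2 ▸ dvd_mul_left _ _⟩
  -- a character of degree `p - 1`
  obtain ⟨χ, hχB, hχd, hχv⟩ : ∃ χ ∈ B, (charDegree (χ : G → ℂ) : ℤ) = p - 1 ∧
      ∀ a : ZMod p, a ≠ 0 → D.sec θ χ a = -1 := by
    by_contra hno
    push Not at hno
    have h1B : triv G ∈ B := by
      by_contra h2
      have h := D.sec_eq_zero_of_notMem hM hind h2 (one_ne_zero (α := ZMod p))
      rw [Frame.sec, Frame.comp, Cfsg.classInner] at h
      simp [hθ, triv_apply] at h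
    have hcaseX : ∀ χ ∈ T.X, χ ≠ triv G →
        (T.sgn χ = 1 ∧ (charDegree (χ : G → ℂ) : ℤ) = 1 + n * p) ∨
          (T.sgn χ = -1 ∧ t = 1 ∧ (1 + (n : ℤ) * p) ∣ charDegree (χ : G → ℂ)) := by
      intro χ hχ hne
      have hmod := T.deg_X χ hχ
      rw [horb, Finset.card_singleton, one_mul, hθd, Nat.cast_one, mul_one] at hmod
      rcases hcase χ ((T.mem_iff χ).2 (Or.inl hχ)) hne _ (T.sgn_X χ hχ) (T.sec_X χ hχ) hmod with h | ⟨h, h' | h'⟩
      · exact Or.inl h
      · obtain ⟨a, ha, hne'⟩ := hno χ ((T.mem_iff χ).2 (Or.inl hχ)) h'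
        exact absurd (by rw [T.sec_X χ hχ a ha, h]; norm_num) hne'
      · exact Or.inr ⟨h, h'⟩
    have hdvdX : ∀ χ ∈ T.X, χ ≠ triv G → (1 + (n : ℤ) * p) ∣ charDegree (χ : G → ℂ) := fun χ hχ hne => by
      rcases hcaseX χ hχ hne with ⟨-, h⟩ | ⟨-, -, h⟩
      exacts [dvd_of_eq h.symm, h]
    have hrel := T.rel η hη 1 hreg
    rw [irr_one_eq η, Finset.sum_congr rfl (g := fun χ : IrrCharacter G =>
      ((T.sgn χ * charDegree (χ : G → ℂ) : ℤ) : ℂ)) fun χ _ => by rw [irr_one_eq]; push_cast; ring] at hrel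
    have hrel' : (∑ χ ∈ T.X, T.sgn χ * (charDegree (χ : G → ℂ) : ℤ)) + T.A * charDegree (η : G → ℂ) = 0 := by
      exact_mod_cast hrel
    have hsumY : ∀ a : ZMod p, a ≠ 0 → ∑ η' ∈ T.Y, D.sec θ η' a = (T.A : ℂ) := by
      intro a ha
      have h2 := D.sum_sec_mul_apply θ ha hreg
      rw [← Finset.sum_subset (Finset.subset_univ (T.X ∪ T.Y)) fun χ _ hχ => by
          rw [D.sec_eq_zero_of_notMem hM hind (fun h => hχ (Finset.mem_union.2 ((T.mem_iff χ).1 h))) ha, zero_mul],
        Finset.sum_union T.disj,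
        Finset.sum_congr rfl (s₁ := T.X) fun χ hχ => by rw [T.sec_X χ hχ a ha],
        Finset.sum_congr rfl (s₁ := T.Y) (g := fun η' => D.sec θ η' a * (η : G → ℂ) 1) fun η' hη' => by
          rw [T.agree η' hη' η hη 1 hreg],
        ← Finset.sum_mul] at h2
      refine mul_right_cancel₀ (irr_one_ne_zero η) ?_
      linear_combination h2 - T.rel η hη 1 hreg
    have hmodY := T.deg_Y η hη
    rw [hθd, mul_one, ← hq] at hmodY
    by_cases hY1 : t = 1
    · -- a single exceptional character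
      obtain ⟨η₁, hη₁⟩ := Finset.card_eq_one.1 hY1
      obtain rfl : η = η₁ := Finset.mem_singleton.1 (hη₁ ▸ hη)
      have hdvdY : η ≠ triv G → (1 + (n : ℤ) * p) ∣ charDegree (η : G → ℂ) := by
        intro hne
        have hsec : ∀ a : ZMod p, a ≠ 0 → D.sec θ η a = T.A := fun a ha => by
          have h := hsumY a ha
          rwa [hη₁, Finset.sum_singleton] at h
        have hmod : (charDegree (η : G → ℂ) : ℤ) ≡ T.A [ZMOD p] := by
          refine hmodY.trans (Int.modEq_iff_dvd.2 ⟨T.A, ?_⟩)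
          rw [hY1, Nat.cast_one, mul_one] at hqtZ
          linear_combination T.A * hqtZ
        rcases hcase η ((T.mem_iff η).2 (Or.inr hη)) hne _ T.sgn_A hsec hmod with ⟨-, h⟩ | ⟨hA, h | ⟨-, h⟩⟩
        · exact dvd_of_eq h.symm
        · obtain ⟨a, ha, hne'⟩ := hno η ((T.mem_iff η).2 (Or.inr hη)) h
          exact absurd (by rw [hsec a ha, hA]; norm_num) hne'
        · exact h
      have hunit : ∀ σ : ℤ, (σ = 1 ∨ σ = -1) → ¬ (1 + (n : ℤ) * p) ∣ σ := fun σ hσ h => by
        have h' : (1 + (n : ℤ) * p) ∣ 1 := by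
          rcases hσ with rfl | rfl
          exacts [h, Int.dvd_neg.1 h]
        have := Int.le_of_dvd one_pos h'
        omega
      by_cases h1X : triv G ∈ T.X
      · refine hunit _ (T.sgn_X _ h1X) ?_
        have hne : η ≠ triv G := fun e => Finset.disjoint_left.1 T.disj h1X (e ▸ hη)
        rw [← Finset.add_sum_erase _ _ h1X, triv_degree, Nat.cast_one, mul_one] at hrel'
        rw [show T.sgn (triv G) = -(∑ χ ∈ T.X.erase (triv G), T.sgn χ * (charDegree (χ : G → ℂ) : ℤ))
          - T.A * charDegree (η : G → ℂ) by linarith]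
        exact dvd_sub (dvd_neg.2 (Finset.dvd_sum fun χ hχ =>
          (hdvdX χ (Finset.mem_of_mem_erase hχ) (Finset.ne_of_mem_erase hχ)).mul_left _)) ((hdvdY hne).mul_left _)
      · refine hunit _ T.sgn_A ?_
        have h1Y : triv G = η := Finset.mem_singleton.1 (hη₁ ▸ ((T.mem_iff _).1 h1B).resolve_left h1X)
        rw [← h1Y, triv_degree, Nat.cast_one, mul_one] at hrel'
        rw [show T.A = -(∑ χ ∈ T.X, T.sgn χ * (charDegree (χ : G → ℂ) : ℤ)) by linarith]
        exact dvd_neg.2 (Finset.dvd_sum fun χ hχ => (hdvdX χ hχ fun e => h1X (e ▸ hχ)).mul_left _)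
    · have hYne : 2 ≤ t := by omega
      have h1X : triv G ∈ T.X := by
        refine ((T.mem_iff _).1 h1B).resolve_right fun h2 => ?_
        obtain ⟨η', hη', hne⟩ := Finset.exists_mem_ne (s := T.Y) (by omega) (triv G)
        refine hne (eq_triv_of_degree_one hperf η' ?_)
        have h := T.agree η' hη' (triv G) h2 1 hreg
        rw [irr_one_eq η', triv_apply] at h
        exact_mod_cast h
      have hs1 : T.sgn (triv G) = 1 := by
        have h := T.sec_X _ h1X 1 one_ne_zero
        rw [← hvalx _ h1B 1 one_ne_zero, triv_apply] at h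
        exact_mod_cast h.symm
      rw [← Finset.add_sum_erase _ _ h1X, hs1, triv_degree, Finset.sum_congr rfl (g := fun _ => (1 : ℤ) + n * p)
          fun χ hχ => by
            rcases hcaseX χ (Finset.mem_of_mem_erase hχ) (Finset.ne_of_mem_erase hχ) with ⟨h, h'⟩ | ⟨-, h, -⟩
            · rw [h, h', one_mul]
            · omega,
        Finset.sum_const, Finset.card_erase_of_mem h1X, T.card_X, hautE, nsmul_eq_mul,
        Nat.cast_sub (show 1 ≤ q by omega), Nat.cast_one, one_mul] at hrel'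
      have he0 : (0 : ℤ) < charDegree (η : G → ℂ) := by exact_mod_cast charDegree_pos η
      have hq1 : (1 : ℤ) ≤ (q : ℤ) - 1 := by omega
      have hbig : 1 + (1 + (n : ℤ) * p) ≤ 1 + ((q : ℤ) - 1) * (1 + n * p) := by nlinarith
      have hA : T.A = -1 := T.sgn_A.resolve_left fun hA => by
        rw [hA, one_mul] at hrel'
        omega
      rw [hA] at hrel'
      have he : (charDegree (η : G → ℂ) : ℤ) = 1 + ((q : ℤ) - 1) * (1 + n * p) := by linarith
      have hdvd : (charDegree (η : G → ℂ) : ℤ) ∣ (q : ℤ) * (1 + n * p) := by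
        have h := dvd_of_sum_apply_x D T.Y (f := charDegree (η : G → ℂ)) (fun η' hη' => ?_)
          (one_ne_zero (α := ZMod p)) T.sgn_A ?_
        · rw [← hq, hidx] at h
          exact_mod_cast h
        · have h := T.agree η' hη' η hη 1 hreg
          simp only [irr_one_eq] at h
          exact_mod_cast h
        · rw [← hsumY 1 one_ne_zero]
          exact Finset.sum_congr rfl fun η' hη' => hvalx η' ((T.mem_iff _).2 (Or.inr hη')) 1 one_ne_zero
      have hle := Int.le_of_dvd (by omega) (IsCoprime.dvd_of_dvd_mul_right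
        (show IsCoprime (charDegree (η : G → ℂ) : ℤ) (1 + (n : ℤ) * p) from ⟨1, -((q : ℤ) - 1), by rw [he]; ring⟩)
        hdvd)
      omega
  -- the `p'`-part of the centralizer is in the kernel
  have hker : ∀ v : D.K0, (χ : G → ℂ) (v : G) = (χ : G → ℂ) 1 := by
    intro v
    have hsum0 : ∑ a ∈ (Finset.univ : Finset (ZMod p)).erase 0, D.sec θ χ a = -((p : ℂ) - 1) := by
      rw [Finset.sum_congr rfl fun a ha => hχv a (Finset.ne_of_mem_erase ha), Finset.sum_const,
        Finset.card_erase_of_mem (Finset.mem_univ _), Finset.card_univ, ZMod.card, nsmul_eq_mul,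
        Nat.cast_sub hp.out.one_le]
      push_cast
      ring
    have h1 : (χ : G → ℂ) 1 = (p : ℂ) - 1 := by
      rw [irr_one_eq]
      have : ((charDegree (χ : G → ℂ) : ℤ) : ℂ) = (((p : ℤ) - 1 : ℤ) : ℂ) := by rw [hχd]
      push_cast at this
      exact this
    choose m hm using fun θ' : IrrCharacter D.K0 => D.exists_mult θ' χ 0
    have hm' : ∀ θ', (p : ℂ) * (m θ' : ℂ) = ∑ a : ZMod p, D.sec θ' χ a := fun θ' => by
      rw [← hm θ', D.classInner_ext, ← mul_assoc, mul_inv_cancel₀ (Nat.cast_ne_zero.2 hp.out.ne_zero), one_mul]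
      simp [Frame.sec]
    have hrow : ∀ y : D.K0, ∑ a : ZMod p, (χ : G → ℂ) (D.el a y : G)
        = ∑ θ' : IrrCharacter D.K0, (p : ℂ) * (m θ' : ℂ) * (θ' : D.K0 → ℂ) y := fun y => by
      simp only [D.apply_mk, hm', Finset.sum_mul]
      exact Finset.sum_comm
    have hfull : ∀ y : D.K0, ∑ a : ZMod p, (χ : G → ℂ) (D.el a y : G) = (χ : G → ℂ) (y : G) - ((p : ℂ) - 1) := fun y => by
      rw [← Finset.add_sum_erase _ _ (Finset.mem_univ (0 : ZMod p)), D.el_zero,
        Finset.sum_congr rfl fun a ha => hval χ hχB a (Finset.ne_of_mem_erase ha) y, hsum0]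
      ring
    have h0 := hrow 1
    rw [hfull, OneMemClass.coe_one, h1, sub_self] at h0
    simp only [irr_one_eq] at h0
    have h0' : (0 : ℕ) = ∑ θ' : IrrCharacter D.K0, p * m θ' * charDegree (θ' : D.K0 → ℂ) := by exact_mod_cast h0
    have hm0 : ∀ θ', m θ' = 0 := fun θ' => by
      have h := (Finset.sum_eq_zero_iff.1 h0'.symm) θ' (Finset.mem_univ _)
      rcases Nat.mul_eq_zero.1 h with h | h
      · exact (Nat.mul_eq_zero.1 h).resolve_left hp.out.ne_zero
      · exact absurd h (charDegree_pos θ').ne'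
    have hv := hrow v
    rw [hfull, Finset.sum_eq_zero fun θ' _ => by rw [hm0 θ', Nat.cast_zero, mul_zero, zero_mul], sub_eq_zero] at hv
    rw [hv, h1]
  have hchar := isCharacter_irr χ
  set L := charKer hchar with hL
  haveI := charKer_normal hchar
  have hLp : ¬ p ∣ Nat.card L := by
    intro hd
    obtain ⟨⟨y, hy⟩, hyo⟩ := exists_prime_orderOf_dvd_card' p hd
    rw [Subgroup.orderOf_mk] at hyo
    obtain ⟨u, a, w, ha, he⟩ := D.exists_conj_el (dvd_of_eq hyo.symm)
    have h := (mem_charKer hchar).1 hy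
    rw [← irr_conj_apply χ y u, he, hval χ hχB a ha w, hχv a ha, irr_one_eq] at h
    have h' : (-1 : ℤ) = (charDegree (χ : G → ℂ) : ℤ) := by exact_mod_cast h
    omega
  have hLbot := hcore L inferInstance hLp
  rw [Subgroup.eq_bot_iff_forall]
  intro v hv
  have : v ∈ L := (mem_charKer hchar).2 (hker ⟨v, hv⟩)
  rwa [hLbot, Subgroup.mem_bot] at this

end CfsgLib.Char.FewSylow
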