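import Cfsg.Agent.Lib.Char.FewSylow.Pos
import Cfsg.Agent.Lib.Recognition.SelfCentThree.Chars

/-!
# Brauer's theorem on few Sylow subgroups: the class equation

The products of two conjugates of an involution, and the values at an involution not conjugate into `H`.
-/

set_option autoImplicit false

namespace CfsgLib.Char.FewSylow

open Cfsg CfsgLib.Blocks CfsgLib.Blocks.DefectOne
open scoped Classical ComplexConjugate

variable {G : Type*} [Group G] [Fintype G] {p : ℕ} [hp : Fact p.Prime] {P : Sylow p G} {D : Frame P}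
  {q t n : ℕ} {s : G}

/-- The number of ways of writing `g` as a product of two conjugates of `v`. -/
noncomputable def pairs (v g : G) : ℕ := Nat.card {u : G // IsConj u v ∧ IsConj (u⁻¹ * g) v}

omit hp in
theorem pairs_eq (v g : G) :
    (Nat.card (Subgroup.centralizer ({v} : Set G)) : ℂ) * (Nat.card (Subgroup.centralizer ({v} : Set G)) : ℂ) *
        (pairs v g : ℂ) =
      (Nat.card G : ℂ) * ∑ φ : Cfsg.IrrCharacter G,
        (φ : G → ℂ) v * (φ : G → ℂ) v * conj ((φ : G → ℂ) g) / (φ : G → ℂ) 1 := by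
  exact CfsgLib.Recognition.SelfCentThree.card_pairs v v g

omit [Fintype G] hp in
theorem inverts_of_pair {u g v : G} (hv : v * v = 1) (hu : IsConj u v) (hug : IsConj (u⁻¹ * g) v) :
    u * u = 1 ∧ u * g * u⁻¹ = g⁻¹ := by
  have hsq : ∀ w : G, IsConj w v → w * w = 1 := fun w hw => by
    obtain ⟨c, hc⟩ := isConj_iff.1 hw
    have e : w = c⁻¹ * v * c := by rw [← hc]; group
    rw [e, show c⁻¹ * v * c * (c⁻¹ * v * c) = c⁻¹ * (v * v) * c by group, hv]; group
  have h1 := hsq u hu
  refine ⟨h1, eq_inv_of_mul_eq_one_left ?_⟩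
  rw [inv_eq_of_mul_eq_one_right h1]
  have h2 := hsq _ hug
  rw [inv_eq_of_mul_eq_one_right h1] at h2
  rw [mul_assoc (u * g) u g]
  exact h2

namespace PosCase

variable {S : Setting D q t n s} {C : Config D q t n} {η : IrrCharacter G} (T : PosCase S C η)
include T

omit T in
/-- A character of `H` takes an integer value at an element of order two. -/
theorem phi_int (S : Setting D q t n s) (χ : IrrCharacter G) {y : Subgroup.zpowers s} (hy : y * y = 1) :
    ∃ z : ℤ, phi D s χ y = (z : ℂ) ∧ |z| ≤ (fix D s χ : ℤ) ∧ Even ((fix D s χ : ℤ) - z) := by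
  have hσ : ∀ μ : IrrCharacter (Subgroup.zpowers s), ∃ σ : ℤ,
      (μ : Subgroup.zpowers s → ℂ) y = (σ : ℂ) ∧ (σ = 1 ∨ σ = -1) := fun μ => by
    have h := Setting.irrH_mul μ y y
    rw [hy, Setting.irrH_one] at h
    rcases mul_self_eq_one_iff.1 h.symm with e | e
    · exact ⟨1, by simp [e], Or.inl rfl⟩
    · exact ⟨-1, by simp [e], Or.inr rfl⟩
  choose σ hσ hσ1 using hσ
  refine ⟨∑ μ, (coef D s χ μ : ℤ) * σ μ, ?_, ?_, ?_⟩
  · rw [S.phi_eq]
    push_cast
    exact Finset.sum_congr rfl fun μ _ => by rw [hσ]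
  · refine (Finset.abs_sum_le_sum_abs _ _).trans ?_
    rw [fix, Nat.cast_sum]
    refine Finset.sum_le_sum fun μ _ => ?_
    rcases hσ1 μ with e | e <;> rw [e] <;> simp
  · rw [fix, Nat.cast_sum, ← Finset.sum_sub_distrib, even_iff_two_dvd]
    refine Finset.dvd_sum fun μ _ => ?_
    rcases hσ1 μ with e | e <;> rw [e]
    · simp
    · exact ⟨coef D s χ μ, by ring⟩

/-- The values at a `p`-regular element not conjugate to an element of `H`. -/
theorem values_outside {v : G} (hv : ¬ p ∣ orderOf v) (hvH : ∀ h : Subgroup.zpowers s, ¬ IsConj v (h : G)) :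
    (∀ χ ∈ C.Xp, (χ : G → ℂ) v = (t : ℂ) * (η : G → ℂ) v) ∧
      1 + ∑ χ ∈ C.O, (fix D s χ : ℂ) * (χ : G → ℂ) v = (t : ℂ) * (η : G → ℂ) v := by
  have hq0 : (q : ℂ) ≠ 0 := Nat.cast_ne_zero.2 (by have := S.two_le_q; omega)
  set c : ℂ := 1 + ∑ χ ∈ C.O, (fix D s χ : ℂ) * (χ : G → ℂ) v with hc
  set τ := triv (Subgroup.zpowers s) with hτ
  set Φ : Subgroup.zpowers s → ℂ := conj c • (τ : Subgroup.zpowers s → ℂ)
    + ∑ χ ∈ C.Xp, conj ((χ : G → ℂ) v) • phi D s χ
    + conj ((t : ℂ) * (η : G → ℂ) v) • phi D s η with hΦ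
  have hΦ0 : ∀ h : Subgroup.zpowers s, h ≠ 1 → Φ h = 0 := fun h h1 => by
    have h0 := CfsgLib.Char.sum_irr_mul_conj v (h : G)
    rw [if_neg (hvH h)] at h0
    have h2 : ∑ χ : IrrCharacter G, phi D s χ h * conj ((χ : G → ℂ) v) = 0 := by
      have h3 := congrArg conj h0
      rw [map_zero, map_sum] at h3
      rw [← h3]
      exact Finset.sum_congr rfl fun χ _ => by rw [map_mul, Complex.conj_conj, S.phi_apply χ h1, mul_comm]
    rw [C.sum_split, Finset.sum_eq_zero (s := C.Xm) fun χ hχ => by rw [C.phi_m S hχ, zero_mul],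
      Finset.sum_congr rfl (s₁ := C.Y) (g := fun _ => phi D s η h * conj ((η : G → ℂ) v)) fun χ hχ => by
        rw [C.phi_Y_eq S hχ T.mem, C.agree χ hχ η T.mem v hv], Finset.sum_const, C.card_Y, nsmul_eq_mul,
      Finset.sum_congr rfl (s₁ := C.O) (g := fun χ => conj ((fix D s χ : ℂ) * (χ : G → ℂ) v)) fun χ hχ => by
        rw [T.phi_O hχ, map_mul, map_natCast], ← map_sum, T.phi_triv, triv_apply, map_one] at h2
    rw [← h2]
    simp only [hΦ, Pi.add_apply, Finset.sum_apply, Pi.smul_apply, smul_eq_mul, hτ, triv_apply, hc, map_add,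
      map_one, map_mul, map_natCast, mul_comm (conj _) (phi D s _ h)]
    ring
  set K : ℂ := (q : ℂ)⁻¹ * Φ 1 with hK
  have hinner : ∀ μ : IrrCharacter (Subgroup.zpowers s), classInner Φ (μ : Subgroup.zpowers s → ℂ) = K := fun μ => by
    rw [Cfsg.classInner, Finset.sum_eq_single (1 : Subgroup.zpowers s), Setting.irrH_one, map_one, mul_one, S.card_H]
    · intro h _ h1
      rw [hΦ0 h h1, zero_mul]
    · exact fun e => absurd (Finset.mem_univ _) e
  have hexp : ∀ μ : IrrCharacter (Subgroup.zpowers s), classInner Φ (μ : Subgroup.zpowers s → ℂ) =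
      conj c * (if τ = μ then 1 else 0) + ∑ χ ∈ C.Xp, conj ((χ : G → ℂ) v) * (coef D s χ μ : ℂ)
        + conj ((t : ℂ) * (η : G → ℂ) v) * (coef D s η μ : ℂ) := fun μ => by
    rw [hΦ, classInner_add_left, classInner_add_left, classInner_smul_left, classInner_irrCharacter,
      classInner_sum_left, classInner_smul_left, S.coef_spec]
    congr 2
    exact Finset.sum_congr rfl fun χ _ => by rw [classInner_smul_left, S.coef_spec]
  -- the trivial character of `H`
  have hcK : conj c = K := by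
    rw [← hinner τ, hexp, if_pos rfl, mul_one,
      Finset.sum_eq_zero fun χ hχ => by rw [(T.coef_le (Or.inl hχ) τ).2 rfl, Nat.cast_zero, mul_zero],
      (T.coef_le (Or.inr T.mem) τ).2 rfl, Nat.cast_zero, mul_zero, add_zero, add_zero]
  -- an exceptional constituent
  have hηK : conj ((t : ℂ) * (η : G → ℂ) v) = K := by
    obtain ⟨μ, -, hμ⟩ := Finset.exists_ne_zero_of_sum_ne_zero
      (show fix D s η ≠ 0 by have := T.one_le_w; omega)
    have h := T.coef_sum μ
    have hτμ : τ ≠ μ := fun e => hμ ((T.coef_le (Or.inr T.mem) μ).2 e)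
    rw [if_neg hτμ] at h
    rw [← hinner μ, hexp, if_neg hτμ, mul_zero, Finset.sum_eq_zero fun χ hχ => ?_, show coef D s η μ = 1 by omega,
      Nat.cast_one, mul_one, zero_add, zero_add]
    rw [(Finset.sum_eq_zero_iff.1 (show ∑ χ ∈ C.Xp, coef D s χ μ = 0 by omega)) χ hχ, Nat.cast_zero, mul_zero]
  refine ⟨fun χ hχ => ?_, star_injective (hcK.trans hηK.symm)⟩
  obtain ⟨μ, -, hμ⟩ := Finset.exists_ne_zero_of_sum_ne_zero
    (show fix D s χ ≠ 0 by rw [C.fix_p S hχ]; omega)
  have h := T.coef_sum μ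
  have hτμ : τ ≠ μ := fun e => hμ ((T.coef_le (Or.inl hχ) μ).2 e)
  rw [if_neg hτμ] at h
  have h1 : coef D s χ μ + ∑ ψ ∈ C.Xp.erase χ, coef D s ψ μ = ∑ ψ ∈ C.Xp, coef D s ψ μ :=
    Finset.add_sum_erase _ (fun ψ => coef D s ψ μ) hχ
  have hχK : conj ((χ : G → ℂ) v) = K := by
    rw [← hinner μ, hexp, if_neg hτμ, mul_zero, show coef D s η μ = 0 by omega, Nat.cast_zero, mul_zero,
      zero_add, add_zero, Finset.sum_eq_single χ, show coef D s χ μ = 1 by omega, Nat.cast_one, mul_one]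
    · intro ψ hψ hne
      rw [(Finset.sum_eq_zero_iff.1 (show ∑ ψ ∈ C.Xp.erase χ, coef D s ψ μ = 0 by omega)) ψ
        (Finset.mem_erase.2 ⟨hne, hψ⟩), Nat.cast_zero, mul_zero]
    · exact fun e => absurd hχ e
  exact star_injective (hχK.trans hηK.symm)

end PosCase

end CfsgLib.Char.FewSylow
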