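import Cfsg.Agent.Lib.Char.FewSylow.Cubed

/-!
# A Sylow subgroup of prime order in a perfect group

Either the quotient by the `p'`-core is `PSL(2, p)` or `SL(2, 2^m)` with `p = 2^m + 1`, or the number
`1 + n p` of Sylow subgroups has `n = (h u p + u ^ 2 + u + h) / (u + 1)`.
-/

set_option autoImplicit false

namespace CfsgLib.Char.FewSylow

open Cfsg CfsgLib.Blocks CfsgLib.Blocks.DefectOne

/-- The number of Sylow subgroups of a quotient divides that of the group. -/
theorem card_sylow_quotient_dvd {G : Type*} [Group G] [Finite G] {p : ℕ} [Fact p.Prime] (M : Subgroup G) [M.Normal]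
    (P : Sylow p G) :
    Nat.card (Sylow p (G ⧸ M)) ∣ Nat.card (Sylow p G) := by
  set f := QuotientGroup.mk' M
  set R := P.mapSurjective (QuotientGroup.mk'_surjective M) with hR
  rw [P.card_eq_index_normalizer, R.card_eq_index_normalizer,
    ← Subgroup.index_comap_of_surjective _ (QuotientGroup.mk'_surjective M)]
  refine Subgroup.index_dvd_of_le ?_
  refine Subgroup.map_le_iff_le_comap.1 ?_
  rw [hR, show ((P.mapSurjective (QuotientGroup.mk'_surjective M) : Sylow p (G ⧸ M)) : Set (G ⧸ M)) = ((((P : Subgroup G).map f) : Subgroup (G ⧸ M)) : Set (G ⧸ M)) from rfl]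
  exact Subgroup.le_normalizer_map _

theorem notRep_of_not_exists {p n : ℕ}
    (h : ¬ ∃ h u : ℕ, 0 < h ∧ 0 < u ∧ n * (u + 1) = h * u * p + u ^ 2 + u + h) : NotRep (p : ℤ) (n : ℤ) := by
  intro a b ha hb e
  lift a to ℕ using ha.le
  lift b to ℕ using hb.le
  exact h ⟨a, b, by exact_mod_cast ha, by exact_mod_cast hb, by exact_mod_cast e⟩

theorem dichotomy {G : Type*} [Group G] [Finite G] (hperf : commutator G = ⊤) (p : ℕ) [hp : Fact p.Prime]
    (P : Sylow p G) (hP : Nat.card P = p) (n : ℕ) (hn : Nat.card (Sylow p G) = 1 + n * p) :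
    (∃ (F : Type) (_ : Field F) (_ : Fintype F), Fintype.card F = p ∧ 3 < p ∧
        Nonempty (G ⧸ Cfsg.pPrimeCore p G ≃* Matrix.ProjectiveSpecialLinearGroup (Fin 2) F)) ∨
      (∃ (m : ℕ) (F : Type) (_ : Field F) (_ : Fintype F), Fintype.card F = 2 ^ m ∧ p = 2 ^ m + 1 ∧ 3 < p ∧
        Nonempty (G ⧸ Cfsg.pPrimeCore p G ≃* Matrix.SpecialLinearGroup (Fin 2) F)) ∨
      (∃ h u : ℕ, 0 < h ∧ 0 < u ∧ n * (u + 1) = h * u * p + u ^ 2 + u + h) := by
  by_cases hex : ∃ h u : ℕ, 0 < h ∧ 0 < u ∧ n * (u + 1) = h * u * p + u ^ 2 + u + h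
  · exact Or.inr (Or.inr hex)
  set M := Cfsg.pPrimeCore p G
  haveI hMn : M.Normal := Subgroup.sSup_normal _ fun N hN => hN.1
  let Q := G ⧸ M
  haveI : Fintype Q := Fintype.ofFinite _
  haveI : Fintype G := Fintype.ofFinite _
  have hdG : p ∣ Nat.card G := hP ▸ (P : Subgroup G).card_subgroup_dvd_card
  have hGQ : Nat.card G = Nat.card Q * Nat.card M := Subgroup.card_eq_card_quotient_mul_card_subgroup M
  have hdQ : p ∣ Nat.card Q := ((hp.out.dvd_mul).1 (hGQ ▸ hdG)).resolve_right (not_dvd_card_core p)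
  have hsqQ : ¬ p ^ 2 ∣ Nat.card Q := fun h => by
    obtain ⟨D⟩ := exists_frame P hP
    exact D.hp2 (hGQ ▸ h.mul_right _)
  obtain ⟨R⟩ : Nonempty (Sylow p Q) := inferInstance
  obtain ⟨D⟩ := exists_frame R (card_sylow hdQ hsqQ R)
  have hperfQ : commutator Q = ⊤ := perfect_quotient hperf M
  obtain ⟨k, hk1, hidx⟩ := exists_index D hperfQ
  -- the core normalizes a Sylow subgroup
  obtain ⟨X, hX⟩ := card_sylow_quotient_dvd M P
  rw [hn, show Nat.card (Sylow p Q) = 1 + k * p from R.card_eq_index_normalizer.trans hidx] at hX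
  obtain ⟨m, hm⟩ : ∃ m, X = 1 + m * p := by
    have h := congrArg (· % p) hX
    simp only [Nat.add_mul_mod_self_right, Nat.mul_mod (1 + k * p), one_mul] at h
    rw [Nat.mod_eq_of_lt hp.out.one_lt, one_mul, Nat.mod_mod] at h
    exact ⟨X / p, by conv_lhs => rw [← Nat.mod_add_div X p, ← h, mul_comm]⟩
  subst hm
  have hnk : n = k + m + k * m * p := Nat.eq_of_mul_eq_mul_right hp.out.pos (by linarith)
  rcases Nat.eq_zero_or_pos m with rfl | hm0
  swap
  · exact absurd ⟨k * (m + 1), m, Nat.mul_pos (by omega) (Nat.succ_pos m), hm0, by rw [hnk]; ring⟩ hex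
  obtain rfl : n = k := by simpa using hnk
  have hrep := notRep_of_not_exists hex
  rcases classification_of_notRep hperfQ D (K0_eq_bot D hperfQ hk1 hidx hrep (eq_bot_of_quotient_core p)) hidx hrep
    with h | ⟨m, F, i1, i2, hF, hpm, h3, ⟨e⟩⟩
  · exact Or.inl h
  · have hev : Even (Fintype.card F) := by
      rw [hF]
      refine Nat.even_pow.2 ⟨even_two, ?_⟩
      rintro rfl
      simp at hpm
      omega
    obtain ⟨e'⟩ := nonempty_sl_equiv_psl hev
    exact Or.inr (Or.inl ⟨m, F, i1, i2, hF, hpm, h3, ⟨e.trans e'⟩⟩)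

end CfsgLib.Char.FewSylow
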