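import Cfsg.Agent.Lib.Char.FewSylow.Count
import Mathlib.GroupTheory.SpecificGroups.Cyclic

/-!
# Brauer's theorem on few Sylow subgroups: an automizer of even order
-/

set_option autoImplicit false

namespace CfsgLib.Char.FewSylow

open Cfsg CfsgLib.Blocks CfsgLib.Blocks.DefectOne
open scoped Classical ComplexConjugate

variable {G : Type*} [Group G] [Fintype G] {p : ℕ} [hp : Fact p.Prime] {P : Sylow p G} {D : Frame P}
  {q t n : ℕ} {s : G}

namespace Setting

variable (S : Setting D q t n s)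
include S

theorem dvd_card_cent (u : Subgroup.zpowers s) : q ∣ Nat.card (Subgroup.centralizer ({(u : G)} : Set G)) := by
  have h : Subgroup.zpowers s ≤ Subgroup.centralizer ({(u : G)} : Set G) := fun g hg =>
    Subgroup.mem_centralizer_singleton_iff.2 (congrArg Subtype.val (comm_H ⟨g, hg⟩ u))
  exact (dvd_of_eq S.card_H.symm).trans (Subgroup.card_dvd_of_le h)

theorem q_le_card_cent (u : Subgroup.zpowers s) : q ≤ Nat.card (Subgroup.centralizer ({(u : G)} : Set G)) :=
  Nat.le_of_dvd Nat.card_pos (S.dvd_card_cent u)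

theorem cent_eq_of_card (u : Subgroup.zpowers s)
    (hu : Nat.card (Subgroup.centralizer ({(u : G)} : Set G)) = q) :
    Subgroup.centralizer ({(u : G)} : Set G) = Subgroup.zpowers s :=
  (Subgroup.eq_of_le_of_card_ge (fun g hg =>
    Subgroup.mem_centralizer_singleton_iff.2 (congrArg Subtype.val (comm_H ⟨g, hg⟩ u)))
    (by rw [hu, S.card_H])).symm

end Setting

namespace PosCase

variable {S : Setting D q t n s} {C : Config D q t n} {η : IrrCharacter G} (T : PosCase S C η)
include T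

omit T in
theorem exists_order_two (S : Setting D q t n s) (hq : Even q) : ∃ y : Subgroup.zpowers s, y ≠ 1 ∧ y * y = 1 ∧
    ∀ v : Subgroup.zpowers s, v * v = 1 → v ≠ 1 → v = y := by
  haveI : Fact (Nat.Prime 2) := ⟨Nat.prime_two⟩
  obtain ⟨y, hy⟩ := exists_prime_orderOf_dvd_card' (G := Subgroup.zpowers s) 2 (by rw [S.card_H]; exact hq.two_dvd)
  have hy2 : y * y = 1 := by rw [← sq, ← hy, pow_orderOf_eq_one]
  have hy1 : y ≠ 1 := fun e => by rw [e, orderOf_one] at hy; norm_num at hy
  refine ⟨y, hy1, hy2, fun v hv hv1 => ?_⟩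
  by_contra hne
  have h := IsCyclic.card_pow_eq_one_le (α := Subgroup.zpowers s) (n := 2) (by norm_num)
  have h3 : ({1, y, v} : Finset (Subgroup.zpowers s)) ⊆ Finset.univ.filter fun a => a ^ 2 = 1 := by
    intro a ha
    simp only [Finset.mem_insert, Finset.mem_singleton] at ha
    rw [Finset.mem_filter, sq]
    rcases ha with rfl | rfl | rfl
    exacts [⟨Finset.mem_univ _, one_mul 1⟩, ⟨Finset.mem_univ _, hy2⟩, ⟨Finset.mem_univ _, hv⟩]
  have h4 := (Finset.card_le_card h3).trans h
  rw [Finset.card_insert_of_notMem (by simp [hy1.symm, hv1.symm]), Finset.card_pair (Ne.symm hne)] at h4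
  omega

/-- The centralizers when the automizer has even order. -/
theorem even_data (hq : Even q) : fix D s η = 1 ∧ t = n + 1 ∧ ∃ y : Subgroup.zpowers s, y ≠ 1 ∧ y * y = 1 ∧
    Nat.card (Subgroup.centralizer ({(y : G)} : Set G)) = t * q ∧
    ∀ h : Subgroup.zpowers s, h ≠ 1 → h ≠ y → Nat.card (Subgroup.centralizer ({(h : G)} : Set G)) = q := by
  obtain ⟨y, hy1, hy2, huniq⟩ := exists_order_two S hq
  have hZ : (Finset.univ.erase (1 : Subgroup.zpowers s)).filter (fun v : Subgroup.zpowers s => IsConj (y : G) (v : G))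
      = {y} := by
    ext v
    simp only [Finset.mem_filter, Finset.mem_erase, Finset.mem_univ, and_true, Finset.mem_singleton]
    refine ⟨fun ⟨hv1, hv⟩ => huniq v ?_ hv1, fun h => by rw [h]; exact ⟨hy1, IsConj.refl _⟩⟩
    obtain ⟨c, hc⟩ := isConj_iff.1 hv
    refine Subtype.ext ?_
    rw [Subgroup.coe_mul, ← hc, show c * (y : G) * c⁻¹ * (c * (y : G) * c⁻¹) = c * ((y : G) * y) * c⁻¹ by group,
      ← Subgroup.coe_mul, hy2, OneMemClass.coe_one]
    group
  have hCy := T.card_cent_mul hy1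
  rw [hZ, Finset.card_singleton, mul_one] at hCy
  have hsum := T.sum_card_cent
  rw [← Finset.add_sum_erase _ _ (Finset.mem_erase.2 ⟨hy1, Finset.mem_univ y⟩), hCy] at hsum
  set R := (Finset.univ.erase (1 : Subgroup.zpowers s)).erase y with hR
  have hRc : R.card = q - 2 := by
    rw [hR, Finset.card_erase_of_mem (Finset.mem_erase.2 ⟨hy1, Finset.mem_univ y⟩),
      Finset.card_erase_of_mem (Finset.mem_univ _), Finset.card_univ, ← Nat.card_eq_fintype_card, S.card_H]
    omega
  have hle : R.card * q ≤ ∑ h ∈ R, Nat.card (Subgroup.centralizer ({(h : G)} : Set G)) := by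
    rw [← smul_eq_mul, ← Finset.sum_const]
    exact Finset.sum_le_sum fun h _ => S.q_le_card_cent h
  have hs2 : ∑ h ∈ R, Nat.card (Subgroup.centralizer ({(h : G)} : Set G)) = (n + 1) * C.Xp.card * q := by
    rw [mul_add, mul_one, mul_right_comm (n + 1) C.Xp.card q] at *
    omega
  rw [hs2] at hle
  have hle' : R.card ≤ (n + 1) * C.Xp.card :=
    Nat.le_of_mul_le_mul_right hle (by have := S.two_le_q; omega)
  have hqw := T.hqw
  rw [mul_comm] at hle'
  have hw : fix D s η = 1 := by have := T.one_le_w; omega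
  have hnt : t = n + 1 := by rw [T.hnw, hw, one_mul]
  refine ⟨hw, hnt, y, hy1, hy2, by rw [hnt]; exact hCy, fun h h1 hhy => ?_⟩
  have heq : ∑ h ∈ R, Nat.card (Subgroup.centralizer ({(h : G)} : Set G)) = ∑ h ∈ R, q := by
    rw [hs2, Finset.sum_const, smul_eq_mul, hRc]
    congr 1
    rw [mul_comm]
    omega
  exact ((Finset.sum_eq_sum_iff_of_le fun h _ => S.q_le_card_cent h).1 heq.symm h
    (Finset.mem_erase.2 ⟨hhy, Finset.mem_erase.2 ⟨h1, Finset.mem_univ h⟩⟩)).symm

/-- An automizer of even order greater than two gives the order of `PSL(2, p)`. -/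
theorem of_even (hq : Even q) (hq2 : q ≠ 2) : t = 2 ∧ n = 1 := by
  obtain ⟨hw, hnt, y, hy1, hy2, hCy, hCrest⟩ := T.even_data hq
  set a := C.Xp.card with ha
  have hqa : q = 2 + a * t := by
    have := T.hqw
    rw [hw] at this
    rw [hnt]
    omega
  have ht2 := C.two_le_t
  have hq3 : 3 ≤ q := by have := S.two_le_q; omega
  have hp0 : (p : ℂ) ≠ 0 := Nat.cast_ne_zero.2 hp.out.ne_zero
  have he0 : (C.e : ℂ) ≠ 0 := Nat.cast_ne_zero.2 (C.deg_Y η T.mem ▸ (charDegree_pos η).ne')
  have ht0 : (t : ℂ) ≠ 0 := Nat.cast_ne_zero.2 (by omega)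
  -- the squares at the involution
  choose z hz using fun χ : IrrCharacter G => phi_int S χ hy2
  have hzη : z η * z η = 1 := by
    obtain ⟨-, h1, h2⟩ := hz η
    rw [hw] at h1 h2
    obtain ⟨k, hk⟩ := h2
    have := abs_le.1 h1
    rcases (show z η = 1 ∨ z η = -1 by omega) with e | e <;> rw [e] <;> norm_num
  have hzp : ∀ χ ∈ C.Xp, z χ * z χ = (t : ℤ) * t := by
    have hle : ∀ χ ∈ C.Xp, z χ * z χ ≤ (t : ℤ) * t := fun χ hχ => by
      have h1 := (hz χ).2.1
      rw [C.fix_p S hχ, ← hnt] at h1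
      have := abs_le.1 h1
      nlinarith
    have heq : ∑ χ ∈ C.Xp, z χ * z χ = ∑ χ ∈ C.Xp, (t : ℤ) * t := by
      have h := T.column_eq hy1 hy1
      rw [if_pos (IsConj.refl _), hCy, Finset.sum_congr rfl (g := fun χ => ((z χ * z χ : ℤ) : ℂ)) fun χ _ => by
          rw [(hz χ).1, map_intCast]; push_cast; ring, (hz η).1, map_intCast, ← Int.cast_mul, hzη, ← Int.cast_sum] at h
      have h' : ((∑ χ ∈ C.Xp, z χ * z χ : ℤ) : ℂ) = ((∑ χ ∈ C.Xp, (t : ℤ) * t : ℤ) : ℂ) := by
        rw [Finset.sum_const, nsmul_eq_mul, ← ha]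
        have e1 : (q : ℂ) = 2 + a * t := by exact_mod_cast hqa
        have e2 : (t : ℂ) = n + 1 := by exact_mod_cast hnt
        push_cast at h ⊢
        linear_combination h + (t : ℂ) * e1 + e2
      exact_mod_cast h'
    exact (Finset.sum_eq_sum_iff_of_le hle).1 heq
  -- an element with centralizer `H`
  obtain ⟨h, h1, hhy⟩ : ∃ h : Subgroup.zpowers s, h ≠ 1 ∧ h ≠ y := by
    refine ⟨⟨s, Subgroup.mem_zpowers s⟩, fun e => ?_, fun e => ?_⟩
    · have h2 := S.ord_s
      rw [show s = 1 from congrArg Subtype.val e, orderOf_one] at h2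
      omega
    · have h2 := S.ord_s
      have h3 : orderOf s ∣ 2 := orderOf_dvd_of_pow_eq_one (by
        rw [sq, show s = (y : G) from congrArg Subtype.val e, ← Subgroup.coe_mul, hy2, OneMemClass.coe_one])
      have := Nat.le_of_dvd two_pos h3
      omega
  have hsum : ∑ φ : Cfsg.IrrCharacter G,
      (φ : G → ℂ) (y : G) * (φ : G → ℂ) (y : G) * conj ((φ : G → ℂ) (h : G)) / (φ : G → ℂ) 1
        = 1 + (n : ℂ) / p - (t : ℂ) / C.e := by
    have hrel := T.sum_rel h
    rw [if_neg h1] at hrel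
    have hrel' := congrArg conj hrel
    rw [map_zero, map_add, map_add, map_one, map_sum] at hrel'
    have hte : (1 : ℂ) + n * p = t * C.e := by exact_mod_cast T.hte.symm
    rw [C.sum_split, triv_apply, triv_apply, triv_apply,
      Finset.sum_congr rfl (s₁ := C.Xp) (g := fun χ => (t : ℂ) / C.e * conj (phi D s χ h)) fun χ hχ => by
        rw [← S.phi_apply χ hy1, (hz χ).1, ← Int.cast_mul, hzp χ hχ, irr_one_eq χ, C.deg_p χ hχ, ← S.phi_apply χ h1]
        push_cast
        rw [hte]
        field_simp,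
      Finset.sum_eq_zero (s := C.Xm) fun χ hχ => by rw [← S.phi_apply χ h1, C.phi_m S hχ]; simp,
      Finset.sum_congr rfl (s₁ := C.Y) (g := fun _ => (1 : ℂ) / C.e * conj (phi D s η h)) fun χ hχ => by
        rw [← S.phi_apply χ hy1, ← S.phi_apply χ h1, C.phi_Y_eq S hχ T.mem, C.phi_Y_eq S hχ T.mem, (hz η).1,
          ← Int.cast_mul, hzη, Int.cast_one, irr_one_eq χ, C.deg_Y χ hχ]
        ring,
      Finset.sum_congr rfl (s₁ := C.O) (g := fun χ => ((fix D s χ * fix D s χ : ℕ) : ℂ) / p) fun χ hχ => by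
        have hd := charDegree_pos χ
        rw [irr_one_eq χ, ← S.phi_apply χ hy1, ← S.phi_apply χ h1, T.phi_O hχ, T.phi_O hχ, map_natCast, C.fix_O S hχ]
        rw [C.fix_O S hχ] at hd
        have hk0 : (fix D s χ : ℂ) ≠ 0 := Nat.cast_ne_zero.2 (fun e => by simp [e] at hd)
        push_cast
        field_simp,
      Finset.sum_const, C.card_Y, nsmul_eq_mul, ← Finset.mul_sum, ← Finset.sum_div, ← Nat.cast_sum, T.sum_fix_sq,
      map_one]
    linear_combination ((t : ℂ) / C.e) * hrel'
  have hN := pairs_eq (y : G) (h : G)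
  rw [hsum, hCy, S.card_G, ← T.hte] at hN
  have hN' : pairs (y : G) (h : G) + 1 = C.e := by
    have e1 : (p : ℂ) = q * t + 1 := by
      have := S.hqt'
      have h' : ((p : ℤ) : ℂ) = (((q : ℤ) * t + 1 : ℤ) : ℂ) := by rw [this]; norm_num
      push_cast at h'
      exact h'
    have e2 : (n : ℂ) = t - 1 := by
      have : (t : ℂ) = n + 1 := by exact_mod_cast hnt
      linear_combination -this
    have e3 : (C.e : ℂ) = p - q := by
      have hf := C.fix_Y S T.mem
      rw [T.hA, hw, mul_one] at hf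
      have h' : ((C.e : ℤ) : ℂ) = (((p : ℤ) - q : ℤ) : ℂ) := by rw [show (C.e : ℤ) = (p : ℤ) - q by omega]
      push_cast at h'
      exact h'
    have hN2 : (t : ℂ) * q * (pairs (y : G) (h : G) : ℂ) = p * C.e + n * C.e - t * p := by
      push_cast at hN
      have hq0 : (q : ℂ) ≠ 0 := Nat.cast_ne_zero.2 (by omega)
      field_simp at hN
      linear_combination hN
    have : ((pairs (y : G) (h : G) + 1 : ℕ) : ℂ) = (C.e : ℂ) := by
      have hq0 : (q : ℂ) ≠ 0 := Nat.cast_ne_zero.2 (by omega)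
      refine mul_left_cancel₀ (show (t : ℂ) * q ≠ 0 from mul_ne_zero ht0 hq0) ?_
      push_cast
      rw [e3, e2] at hN2
      rw [e3]
      rw [e1] at hN2 ⊢
      linear_combination hN2
    exact_mod_cast this
  -- at most `q` elements invert
  have hCh := S.cent_eq_of_card h (hCrest h h1 hhy)
  have hcard : pairs (y : G) (h : G) ≤ q := by
    rw [pairs]
    by_cases hne : Nonempty {u : G // IsConj u (y : G) ∧ IsConj (u⁻¹ * (h : G)) (y : G)}
    · obtain ⟨u0, hu0, hu0'⟩ := hne
      have hyy : (y : G) * y = 1 := congrArg Subtype.val hy2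
      obtain ⟨-, hi0⟩ := inverts_of_pair hyy hu0 hu0'
      refine (Nat.card_le_card_of_injective (fun u => (⟨u0⁻¹ * u.1, ?_⟩ : Subgroup.zpowers s)) ?_).trans S.card_H.le
      · obtain ⟨-, hi⟩ := inverts_of_pair hyy u.2.1 u.2.2
        refine (fun hm : u0⁻¹ * u.1 ∈ Subgroup.centralizer ({(h : G)} : Set G) => by rwa [hCh] at hm) ?_
        rw [Subgroup.mem_centralizer_singleton_iff]
        calc u0⁻¹ * u.1 * (h : G) = u0⁻¹ * (u.1 * h * u.1⁻¹) * u.1 := by group
          _ = u0⁻¹ * (u0 * h * u0⁻¹) * u.1 := by rw [hi, hi0]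
          _ = (h : G) * (u0⁻¹ * u.1) := by group
      · intro u v e
        exact Subtype.ext (mul_left_cancel (congrArg Subtype.val e))
    · rw [not_nonempty_iff] at hne
      rw [Nat.card_of_isEmpty]
      omega
  -- the numbers
  have hpe : (C.e : ℤ) = (p : ℤ) - q := by
    have hf := C.fix_Y S T.mem
    rw [T.hA, hw] at hf
    omega
  have h1' : (C.e : ℤ) - 1 = (q : ℤ) * ((t : ℤ) - 1) := by
    rw [hpe, ← sub_eq_zero]
    linear_combination -S.hqt'
  have h2' : (C.e : ℤ) - 1 ≤ q := by omega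
  have h3 : (t : ℤ) = 2 := by nlinarith
  omega

end PosCase

end CfsgLib.Char.FewSylow
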