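import Cfsg.Agent.Lib.Char.FewSylow.Split

/-!
# Brauer's theorem on few Sylow subgroups: the positive sign

With `w` the multiplicity of the exceptional characters in the fixed points of `P` one has
`n + 1 = w * t` and `q = 1 + w + a * (n + 1)`; the deflated characters decompose the regular
character of `H`, and this gives the orders of the centralizers of the elements of `H`.
-/

set_option autoImplicit false

namespace CfsgLib.Char.FewSylow

open Cfsg CfsgLib.Blocks CfsgLib.Blocks.DefectOne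
open scoped Classical ComplexConjugate

theorem sq_identity (a b w t q p e n : ℤ) (hn : n = w * t - 1) (hq : q = 1 + w + a * (n + 1))
    (hp : p = q * t + 1) (he : e = w * p - q) (hb : b = w + a * n) :
    p * q * (1 + n * p) = 1 + a * (1 + n * p) ^ 2 + b * (p - 1) ^ 2 + t * e ^ 2 + n * p ^ 2 := by
  subst hb he hp hq hn; ring

variable {G : Type*} [Group G] [Fintype G] {p : ℕ} [hp : Fact p.Prime] {P : Sylow p G} {D : Frame P}
  {q t n : ℕ} {s : G}

/-- The data in the case of the sign `1`. -/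
structure PosCase (S : Setting D q t n s) (C : Config D q t n) (η : IrrCharacter G) : Prop where
  hA : C.A = 1
  mem : η ∈ C.Y
  one_le_w : 1 ≤ fix D s η
  hnw : n + 1 = fix D s η * t
  hte : t * C.e = 1 + n * p
  hqw : q = 1 + fix D s η + C.Xp.card * (n + 1)
  hbw : C.Xm.card = fix D s η + C.Xp.card * n

theorem exists_posCase (S : Setting D q t n s) (C : Config D q t n) (hA : C.A = 1) :
    ∃ η, PosCase S C η := by
  obtain ⟨η, hη⟩ : C.Y.Nonempty := Finset.card_pos.1 (by rw [C.card_Y]; have := C.two_le_t; omega)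
  have hfY := C.fix_Y S hη
  rw [hA, mul_one] at hfY
  have hrel := C.rel_one S hη
  rw [hA, one_mul] at hrel
  obtain ⟨g, hg⟩ := C.e_dvd S
  have he0 : 0 < C.e := C.deg_Y η hη ▸ charDegree_pos η
  have hg0 : 0 < g := by
    by_contra hc
    obtain rfl : g = 0 := by omega
    rw [mul_zero] at hg
    rcases Nat.mul_eq_zero.1 hg with h | h
    · have := S.two_le_q; omega
    · omega
  obtain ⟨hw, hnw, hte, hqw⟩ := exceptional_pos (p := (p : ℤ)) (q := (q : ℤ)) (t := (t : ℤ)) (n := (n : ℤ))
    (by exact_mod_cast C.five_le_p S) (by exact_mod_cast S.two_le_q) (by exact_mod_cast C.two_le_t) S.hqt'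
    (by exact_mod_cast S.one_le_n) S.notRep (a := (C.Xp.card : ℤ)) (b := (C.Xm.card : ℤ))
    (by have := C.card_X; omega) (e := (C.e : ℤ)) (w := (fix D s η : ℤ)) (by linear_combination -hfY)
    (by exact_mod_cast he0) (g := (g : ℤ)) (by exact_mod_cast hg0)
    (by rw [mul_comm]; exact_mod_cast hg.symm) hrel
  refine ⟨η, hA, hη, by exact_mod_cast hw, by exact_mod_cast hnw, by exact_mod_cast hte, ?_, ?_⟩
  · have : (q : ℤ) = 1 + fix D s η + C.Xp.card * (n + 1) := by linarith
    exact_mod_cast this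
  · have h1 : ((C.Xm.card : ℤ)) = fix D s η + C.Xp.card * n := by
      have := C.card_X
      linarith [show (C.Xp.card : ℤ) + C.Xm.card = q - 1 by omega]
    exact_mod_cast h1

namespace PosCase

variable {S : Setting D q t n s} {C : Config D q t n} {η : IrrCharacter G} (T : PosCase S C η)
include T

theorem phi_triv (h : Subgroup.zpowers s) : phi D s (triv G) h = 1 := by
  rw [phi]
  simp only [triv_apply, Finset.sum_const, Finset.card_univ, ZMod.card, nsmul_eq_mul, mul_one]
  exact inv_mul_cancel₀ (Nat.cast_ne_zero.2 hp.out.ne_zero)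

theorem sum_rel (h : Subgroup.zpowers s) :
    1 + ∑ χ ∈ C.Xp, phi D s χ h + phi D s η h = if h = 1 then (q : ℂ) else 0 := by
  by_cases h1 : h = 1
  · rw [if_pos h1, h1, S.phi_one_eq, Finset.sum_congr rfl (g := fun _ => ((n + 1 : ℕ) : ℂ)) fun χ hχ => by
      rw [S.phi_one_eq, C.fix_p S hχ], Finset.sum_const, nsmul_eq_mul]
    conv_rhs => rw [T.hqw]
    push_cast
    ring
  · rw [if_neg h1]
    have h2 := C.rel η T.mem _ (S.regular h.2)
    rw [T.hA, Int.cast_one, one_mul, Finset.sum_congr rfl (s₁ := C.Xp) fun χ _ => (S.phi_apply χ h1).symm,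
      Finset.sum_eq_zero (s := C.Xm) fun χ hχ => by rw [← S.phi_apply χ h1, C.phi_m S hχ],
      ← S.phi_apply η h1, sub_zero] at h2
    exact h2

/-- Every linear character of `H` occurs once. -/
theorem coef_sum (μ : IrrCharacter (Subgroup.zpowers s)) :
    (if triv (Subgroup.zpowers s) = μ then 1 else 0) + ∑ χ ∈ C.Xp, coef D s χ μ + coef D s η μ = 1 := by
  have hq0 : (q : ℂ) ≠ 0 := Nat.cast_ne_zero.2 (by have := S.two_le_q; omega)
  have h : classInner ((triv (Subgroup.zpowers s) : Subgroup.zpowers s → ℂ) + ∑ χ ∈ C.Xp, phi D s χ + phi D s η)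
      (μ : Subgroup.zpowers s → ℂ) = 1 := by
    rw [Cfsg.classInner, Finset.sum_eq_single (1 : Subgroup.zpowers s)]
    · simp only [Pi.add_apply, Finset.sum_apply, triv_apply, T.sum_rel, if_true, Setting.irrH_one, map_one, mul_one,
        S.card_H]
      exact inv_mul_cancel₀ hq0
    · intro h _ h1
      simp only [Pi.add_apply, Finset.sum_apply, triv_apply, T.sum_rel, if_neg h1, zero_mul]
    · exact fun e => absurd (Finset.mem_univ _) e
  rw [classInner_add_left, classInner_add_left, classInner_irrCharacter, classInner_sum_left,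
    Finset.sum_congr rfl fun χ _ => S.coef_spec χ μ, S.coef_spec] at h
  have h' : ((((if triv (Subgroup.zpowers s) = μ then 1 else 0) + ∑ χ ∈ C.Xp, coef D s χ μ + coef D s η μ : ℕ)) : ℂ)
      = ((1 : ℕ) : ℂ) := by
    push_cast
    exact h
  exact_mod_cast h'

theorem coef_le {χ : IrrCharacter G} (hχ : χ ∈ C.Xp ∨ χ ∈ C.Y) (μ : IrrCharacter (Subgroup.zpowers s)) :
    coef D s χ μ ≤ 1 ∧ (triv (Subgroup.zpowers s) = μ → coef D s χ μ = 0) := by
  have h := T.coef_sum μ
  rcases hχ with hχ | hχ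
  · have h1 : coef D s χ μ ≤ ∑ χ ∈ C.Xp, coef D s χ μ :=
      Finset.single_le_sum (f := fun χ => coef D s χ μ) (fun _ _ => Nat.zero_le _) hχ
    split_ifs at h with hμ <;> exact ⟨by omega, fun e => by first | omega | exact absurd e hμ⟩
  · have hc : coef D s χ μ = coef D s η μ := by
      have h1 := S.coef_spec χ μ
      rw [show phi D s χ = phi D s η from funext (C.phi_Y_eq S hχ T.mem), S.coef_spec] at h1
      exact_mod_cast h1.symm
    rw [hc]
    split_ifs at h with hμ <;> exact ⟨by omega, fun e => by first | omega | exact absurd e hμ⟩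

theorem sum_phi_zero {χ : IrrCharacter G} (hχ : χ ∈ C.Xp ∨ χ ∈ C.Y) : ∑ h, phi D s χ h = 0 := by
  rw [S.sum_phi, (T.coef_le hχ _).2 rfl, Nat.cast_zero, mul_zero]

theorem sum_phi_sq_eq {χ : IrrCharacter G} (hχ : χ ∈ C.Xp ∨ χ ∈ C.Y) :
    ∑ h, phi D s χ h * conj (phi D s χ h) = (q : ℂ) * (fix D s χ : ℂ) := by
  rw [S.sum_phi_sq, fix, Nat.cast_sum]
  congr 1
  refine Finset.sum_congr rfl fun μ _ => ?_
  rcases Nat.le_one_iff_eq_zero_or_eq_one.1 (T.coef_le hχ μ).1 with h | h <;> rw [h] <;> simp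

theorem coef_triv_triv : coef D s (triv G) (triv (Subgroup.zpowers s)) = 1 := by
  have h := S.sum_phi (triv G)
  simp only [T.phi_triv, Finset.sum_const, Finset.card_univ, nsmul_eq_mul, mul_one] at h
  rw [← Nat.card_eq_fintype_card, S.card_H] at h
  have hq0 : (q : ℂ) ≠ 0 := Nat.cast_ne_zero.2 (by have := S.two_le_q; omega)
  have : ((coef D s (triv G) (triv (Subgroup.zpowers s)) : ℕ) : ℂ) = ((1 : ℕ) : ℂ) :=
    mul_left_cancel₀ hq0 (by rw [← h, Nat.cast_one, mul_one])
  exact_mod_cast this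

/-- The sum of the squares for the characters vanishing at the elements of order `p`. -/
theorem sum_fix_sq : ∑ χ ∈ C.O, fix D s χ * fix D s χ = n := by
  have h := sum_sq_apply_one (G := G)
  simp only [irr_one_eq] at h
  have h' : ∑ χ : IrrCharacter G, (charDegree (χ : G → ℂ) : ℤ) ^ 2 = (Nat.card G : ℤ) := by exact_mod_cast h
  rw [C.sum_split, triv_degree,
    Finset.sum_congr rfl (s₁ := C.Xp) (g := fun _ => (1 + (n : ℤ) * p) ^ 2) fun χ hχ => by
      rw [C.deg_p χ hχ]; push_cast; ring,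
    Finset.sum_congr rfl (s₁ := C.Xm) (g := fun _ => ((p : ℤ) - 1) ^ 2) fun χ hχ => by
      congr 1; have := C.deg_m χ hχ; omega,
    Finset.sum_congr rfl (s₁ := C.Y) (g := fun _ => (C.e : ℤ) ^ 2) fun χ hχ => by rw [C.deg_Y χ hχ],
    Finset.sum_congr rfl (s₁ := C.O) (g := fun χ => (p : ℤ) ^ 2 * ((fix D s χ * fix D s χ : ℕ) : ℤ)) fun χ hχ => by
      rw [C.fix_O S hχ]; push_cast; ring,
    Finset.sum_const, Finset.sum_const, Finset.sum_const, C.card_Y, ← Finset.mul_sum, ← Nat.cast_sum, S.card_G] at h'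
  simp only [nsmul_eq_mul] at h'
  have hfY := C.fix_Y S T.mem
  rw [T.hA, mul_one] at hfY
  have key := sq_identity (C.Xp.card : ℤ) (C.Xm.card : ℤ) (fix D s η : ℤ) (t : ℤ) (q : ℤ) (p : ℤ) (C.e : ℤ) (n : ℤ)
    (by have := T.hnw; push_cast [← this] at *; linarith [show (n : ℤ) + 1 = (fix D s η : ℤ) * t by exact_mod_cast T.hnw])
    (by exact_mod_cast T.hqw) (by linarith [S.hqt']) (by linear_combination -hfY) (by exact_mod_cast T.hbw)
  have hp0 : ((p : ℤ) ^ 2) ≠ 0 := pow_ne_zero _ (by exact_mod_cast hp.out.ne_zero)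
  have : ((∑ χ ∈ C.O, fix D s χ * fix D s χ : ℕ) : ℤ) = (n : ℤ) := by
    refine mul_left_cancel₀ hp0 ?_
    push_cast at h' key ⊢
    linear_combination h' + key
  exact_mod_cast this

/-- The characters vanishing at the elements of order `p` are constant on `H`. -/
theorem phi_O {χ : IrrCharacter G} (hχ : χ ∈ C.O) (h : Subgroup.zpowers s) : phi D s χ h = (fix D s χ : ℂ) := by
  set τ := triv (Subgroup.zpowers s)
  have hle : ∀ ψ : IrrCharacter G, coef D s ψ τ ≤ fix D s ψ := fun ψ =>
    Finset.single_le_sum (fun _ _ => Nat.zero_le _) (Finset.mem_univ τ)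
  have h1 : ∑ ψ : IrrCharacter G, charDegree (ψ : G → ℂ) * coef D s ψ τ = 1 + n * p := by
    have h := S.sum_degree_coef
    simp only [irr_one_eq] at h
    exact_mod_cast h
  rw [C.sum_split, triv_degree, T.coef_triv_triv,
    Finset.sum_eq_zero (s := C.Xp) fun ψ hψ => by rw [(T.coef_le (Or.inl hψ) _).2 rfl, mul_zero],
    Finset.sum_eq_zero (s := C.Xm) fun ψ hψ => by
      rw [(Finset.sum_eq_zero_iff.1 (C.fix_m S hψ)) _ (Finset.mem_univ _), mul_zero],
    Finset.sum_eq_zero (s := C.Y) fun ψ hψ => by rw [(T.coef_le (Or.inr hψ) _).2 rfl, mul_zero],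
    Finset.sum_congr rfl (s₁ := C.O) (g := fun ψ => p * (fix D s ψ * coef D s ψ τ)) fun ψ hψ => by
      rw [C.fix_O S hψ, mul_assoc], ← Finset.mul_sum] at h1
  have h2 : ∑ ψ ∈ C.O, fix D s ψ * coef D s ψ τ = n := by
    refine Nat.eq_of_mul_eq_mul_left hp.out.pos ?_
    rw [mul_comm p n]
    omega
  replace h2 := h2.trans T.sum_fix_sq.symm
  have h3 := (Finset.sum_eq_sum_iff_of_le fun ψ _ => Nat.mul_le_mul_left _ (hle ψ)).1 h2 χ hχ
  have hpos : 0 < fix D s χ := by
    have hd := charDegree_pos χ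
    rw [C.fix_O S hχ] at hd
    exact pos_of_mul_pos_right hd (Nat.zero_le _)
  have h4 : coef D s χ τ = fix D s χ := Nat.eq_of_mul_eq_mul_left hpos h3
  rw [S.phi_eq, Finset.sum_eq_single τ]
  · rw [h4]; simp [τ, triv_apply]
  · intro μ _ hμ
    have h5 : coef D s χ τ + coef D s χ μ ≤ fix D s χ := by
      rw [← Finset.sum_pair (f := fun μ => coef D s χ μ) hμ.symm]
      exact Finset.sum_le_sum_of_subset (Finset.subset_univ _)
    rw [show coef D s χ μ = 0 by omega, Nat.cast_zero, zero_mul]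
  · exact fun e => absurd (Finset.mem_univ _) e

/-- The scalar product of two columns at elements of `H`. -/
theorem column (u v : Subgroup.zpowers s) :
    ∑ χ : IrrCharacter G, phi D s χ u * conj (phi D s χ v) =
      1 + n + ∑ χ ∈ C.Xp, phi D s χ u * conj (phi D s χ v) + t * (phi D s η u * conj (phi D s η v)) := by
  rw [C.sum_split, Finset.sum_eq_zero (s := C.Xm) fun χ hχ => by rw [C.phi_m S hχ, zero_mul],
    Finset.sum_congr rfl (s₁ := C.Y) (g := fun _ => phi D s η u * conj (phi D s η v)) fun χ hχ => by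
      rw [C.phi_Y_eq S hχ T.mem, C.phi_Y_eq S hχ T.mem], Finset.sum_const, C.card_Y, nsmul_eq_mul,
    Finset.sum_congr rfl (s₁ := C.O) (g := fun χ => ((fix D s χ * fix D s χ : ℕ) : ℂ)) fun χ hχ => by
      rw [T.phi_O hχ, T.phi_O hχ, map_natCast]; push_cast; ring,
    ← Nat.cast_sum, T.sum_fix_sq, T.phi_triv, T.phi_triv, map_one, mul_one]
  ring

theorem column_eq {u v : Subgroup.zpowers s} (hu : u ≠ 1) (hv : v ≠ 1) :
    1 + (n : ℂ) + ∑ χ ∈ C.Xp, phi D s χ u * conj (phi D s χ v) + t * (phi D s η u * conj (phi D s η v))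
      = if IsConj (u : G) (v : G) then (Nat.card (Subgroup.centralizer ({(v : G)} : Set G)) : ℂ) else 0 := by
  rw [← T.column, ← CfsgLib.Char.sum_irr_mul_conj]
  exact Finset.sum_congr rfl fun χ _ => by rw [S.phi_apply χ hu, S.phi_apply χ hv]

/-- The total of the centralizer orders. -/
theorem sum_card_cent : ∑ h ∈ Finset.univ.erase (1 : Subgroup.zpowers s),
    Nat.card (Subgroup.centralizer ({(h : G)} : Set G)) = (n + 1) * q * (C.Xp.card + 1) := by
  have hsplit : ∀ F : Subgroup.zpowers s → ℂ, ∑ h ∈ Finset.univ.erase (1 : Subgroup.zpowers s), F h = ∑ h, F h - F 1 :=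
    fun F => Finset.sum_erase_eq_sub (Finset.mem_univ _)
  have hp' : ∀ χ ∈ C.Xp, ∑ h ∈ Finset.univ.erase (1 : Subgroup.zpowers s), phi D s χ h * conj (phi D s χ h)
      = (q : ℂ) * (n + 1) - (n + 1) * (n + 1) := fun χ hχ => by
    rw [hsplit, T.sum_phi_sq_eq (Or.inl hχ), S.phi_one_eq, C.fix_p S hχ, map_natCast]; push_cast; ring
  have h : ((∑ h ∈ Finset.univ.erase (1 : Subgroup.zpowers s),
      Nat.card (Subgroup.centralizer ({(h : G)} : Set G)) : ℕ) : ℂ) = (((n + 1) * q * (C.Xp.card + 1) : ℕ) : ℂ) := by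
    rw [Nat.cast_sum, Finset.sum_congr rfl fun h hh => (((T.column_eq (Finset.ne_of_mem_erase hh)
        (Finset.ne_of_mem_erase hh)).trans (if_pos (IsConj.refl _)))).symm,
      Finset.sum_add_distrib, Finset.sum_add_distrib, Finset.sum_const, Finset.sum_comm, Finset.sum_congr rfl hp',
      Finset.sum_const, ← Finset.mul_sum, hsplit fun h => phi D s η h * conj (phi D s η h),
      T.sum_phi_sq_eq (Or.inr T.mem), S.phi_one_eq, map_natCast, Finset.card_erase_of_mem (Finset.mem_univ _),
      Finset.card_univ, ← Nat.card_eq_fintype_card, S.card_H, nsmul_eq_mul, nsmul_eq_mul]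
    have h1 : (n : ℂ) + 1 = (fix D s η : ℂ) * t := by exact_mod_cast T.hnw
    have h2 : (q : ℂ) = 1 + fix D s η + C.Xp.card * (n + 1) := by exact_mod_cast T.hqw
    push_cast [Nat.cast_sub (show 1 ≤ q by have := S.two_le_q; omega)]
    linear_combination ((fix D s η : ℂ) - (q : ℂ)) * h1 + ((n : ℂ) + 1) * h2
  exact_mod_cast h

/-- The centralizer order times the number of conjugates in `H`. -/
theorem card_cent_mul {u : Subgroup.zpowers s} (hu : u ≠ 1) :
    Nat.card (Subgroup.centralizer ({(u : G)} : Set G)) *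
      ((Finset.univ.erase (1 : Subgroup.zpowers s)).filter fun v : Subgroup.zpowers s => IsConj (u : G) (v : G)).card
      = (n + 1) * q := by
  have hsplit : ∀ F : Subgroup.zpowers s → ℂ, ∑ h ∈ Finset.univ.erase (1 : Subgroup.zpowers s), F h = ∑ h, F h - F 1 :=
    fun F => Finset.sum_erase_eq_sub (Finset.mem_univ _)
  set Z := (Finset.univ.erase (1 : Subgroup.zpowers s)).filter fun v : Subgroup.zpowers s => IsConj (u : G) (v : G)
  have h : ((Nat.card (Subgroup.centralizer ({(u : G)} : Set G)) * Z.card : ℕ) : ℂ) = (((n + 1) * q : ℕ) : ℂ) := by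
    have hZ : ∀ v ∈ Z, Nat.card (Subgroup.centralizer ({(v : G)} : Set G))
        = Nat.card (Subgroup.centralizer ({(u : G)} : Set G)) := fun v hv => by
      have h1 := CfsgLib.Char.card_conjugates_mul (u : G)
      have h2 := CfsgLib.Char.card_conjugates_mul (v : G)
      rw [← h1, Nat.card_congr (Equiv.subtypeEquivRight fun g =>
        ⟨fun hg => hg.trans (Finset.mem_filter.1 hv).2.symm, fun hg => hg.trans (Finset.mem_filter.1 hv).2⟩ :
          {g : G // IsConj g (v : G)} ≃ {g : G // IsConj g (u : G)})] at h2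
      exact Nat.eq_of_mul_eq_mul_left (Nat.card_pos_iff.2 ⟨⟨⟨(u : G), IsConj.refl _⟩⟩, inferInstance⟩) h2
    rw [mul_comm, ← smul_eq_mul, ← Finset.sum_const, ← Finset.sum_congr rfl hZ, Nat.cast_sum, Finset.sum_filter,
      Finset.sum_congr rfl fun v hv => (T.column_eq hu (Finset.ne_of_mem_erase hv)).symm,
      Finset.sum_add_distrib, Finset.sum_add_distrib, Finset.sum_const, Finset.sum_comm,
      Finset.sum_congr rfl (s₁ := C.Xp) (g := fun χ => -(((n : ℂ) + 1) * phi D s χ u)) fun χ hχ => ?_,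
      Finset.sum_neg_distrib, ← Finset.mul_sum, ← Finset.mul_sum, ← Finset.mul_sum,
      hsplit fun h => conj (phi D s η h), ← map_sum, T.sum_phi_zero (Or.inr T.mem), map_zero, S.phi_one_eq,
      map_natCast, Finset.card_erase_of_mem (Finset.mem_univ _), Finset.card_univ, ← Nat.card_eq_fintype_card,
      S.card_H, nsmul_eq_mul]
    · have h1 : (n : ℂ) + 1 = (fix D s η : ℂ) * t := by exact_mod_cast T.hnw
      have h0 := T.sum_rel u
      rw [if_neg hu] at h0
      push_cast [Nat.cast_sub (show 1 ≤ q by have := S.two_le_q; omega)]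
      linear_combination -((n : ℂ) + 1) * h0 + (phi D s η u) * h1
    · rw [← Finset.mul_sum, hsplit fun h => conj (phi D s χ h), ← map_sum, T.sum_phi_zero (Or.inl hχ), map_zero,
        S.phi_one_eq, map_natCast, C.fix_p S hχ]
      push_cast
      ring
  exact_mod_cast h

end PosCase

end CfsgLib.Char.FewSylow
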