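import Cfsg.Agent.Lib.Char.FewSylow.Config

/-!
# Brauer's theorem on few Sylow subgroups: the numbers attached to the characters
-/

set_option autoImplicit false

namespace CfsgLib.Char.FewSylow

open Cfsg CfsgLib.Blocks CfsgLib.Blocks.DefectOne
open scoped Classical ComplexConjugate

variable {G : Type*} [Group G] [Fintype G] {p : ℕ} [hp : Fact p.Prime] {P : Sylow p G} {D : Frame P}
  {q t n : ℕ} {s : G}

namespace Config

variable (C : Config D q t n)

/-- The characters vanishing at the elements of order `p`. -/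
noncomputable def O (C : Config D q t n) : Finset (IrrCharacter G) :=
  Finset.univ.filter fun χ => χ ≠ triv G ∧ χ ∉ C.Xp ∧ χ ∉ C.Xm ∧ χ ∉ C.Y

theorem mem_O (χ : IrrCharacter G) : χ ∈ C.O ↔ χ ≠ triv G ∧ χ ∉ C.Xp ∧ χ ∉ C.Xm ∧ χ ∉ C.Y := by
  simp [O]

theorem sum_split {R : Type*} [AddCommMonoid R] (F : IrrCharacter G → R) :
    ∑ χ, F χ = F (triv G) + ∑ χ ∈ C.Xp, F χ + ∑ χ ∈ C.Xm, F χ + ∑ χ ∈ C.Y, F χ + ∑ χ ∈ C.O, F χ := by
  have hu : (Finset.univ : Finset (IrrCharacter G)) = ((({triv G} ∪ C.Xp) ∪ C.Xm) ∪ C.Y) ∪ C.O := by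
    ext χ
    simp only [Finset.mem_union, Finset.mem_singleton, mem_O, Finset.mem_univ, true_iff]
    tauto
  have d1 : Disjoint ({triv G} : Finset (IrrCharacter G)) C.Xp := Finset.disjoint_singleton_left.2 C.one_p
  have d2 : Disjoint ({triv G} ∪ C.Xp) C.Xm :=
    Finset.disjoint_union_left.2 ⟨Finset.disjoint_singleton_left.2 C.one_m, C.d_pm⟩
  have d3 : Disjoint (({triv G} ∪ C.Xp) ∪ C.Xm) C.Y := Finset.disjoint_union_left.2
    ⟨Finset.disjoint_union_left.2 ⟨Finset.disjoint_singleton_left.2 C.one_Y, C.d_pY⟩, C.d_mY⟩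
  have d4 : Disjoint ((({triv G} ∪ C.Xp) ∪ C.Xm) ∪ C.Y) C.O := Finset.disjoint_right.2 fun χ hχ h => by
    have := (C.mem_O χ).1 hχ
    simp only [Finset.mem_union, Finset.mem_singleton] at h
    tauto
  rw [hu, Finset.sum_union d4, Finset.sum_union d3, Finset.sum_union d2, Finset.sum_union d1, Finset.sum_singleton]

theorem two_le_q (C : Config D q t n) : 1 ≤ q := by have := C.card_X; omega

/-- The sum of the values at the nontrivial elements of `P`. -/
theorem sum_val_p {χ : IrrCharacter G} (hχ : χ ∈ C.Xp) :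
    ∑ a ∈ Finset.univ.erase (0 : ZMod p), (χ : G → ℂ) (D.x ^ a.val) = (p : ℂ) - 1 := by
  rw [Finset.sum_congr rfl fun a ha => C.val_p χ hχ a (Finset.ne_of_mem_erase ha), Finset.sum_const,
    Finset.card_erase_of_mem (Finset.mem_univ _), Finset.card_univ, ZMod.card, nsmul_eq_mul,
    Nat.cast_sub hp.out.one_le, Nat.cast_one, mul_one]

theorem sum_val_m {χ : IrrCharacter G} (hχ : χ ∈ C.Xm) :
    ∑ a ∈ Finset.univ.erase (0 : ZMod p), (χ : G → ℂ) (D.x ^ a.val) = 1 - (p : ℂ) := by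
  rw [Finset.sum_congr rfl fun a ha => C.val_m χ hχ a (Finset.ne_of_mem_erase ha), Finset.sum_const,
    Finset.card_erase_of_mem (Finset.mem_univ _), Finset.card_univ, ZMod.card, nsmul_eq_mul,
    Nat.cast_sub hp.out.one_le, Nat.cast_one]
  ring

theorem sum_val_O {χ : IrrCharacter G} (hχ : χ ∈ C.O) :
    ∑ a ∈ Finset.univ.erase (0 : ZMod p), (χ : G → ℂ) (D.x ^ a.val) = 0 :=
  Finset.sum_eq_zero fun a ha => by
    obtain ⟨h1, h2, h3, h4⟩ := (C.mem_O χ).1 hχ
    exact C.val_O χ h1 h2 h3 h4 a (Finset.ne_of_mem_erase ha)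

omit hp in
theorem sum_val_triv [Fact p.Prime] :
    ∑ a ∈ Finset.univ.erase (0 : ZMod p), (triv G : G → ℂ) (D.x ^ a.val) = (p : ℂ) - 1 := by
  simp only [triv_apply, Finset.sum_const, Finset.card_erase_of_mem (Finset.mem_univ _), Finset.card_univ,
    ZMod.card, nsmul_eq_mul, mul_one, Nat.cast_sub (Fact.out : p.Prime).one_le, Nat.cast_one]

variable (S : Setting D q t n s)
include C S

omit C in
theorem fix_triv : fix D s (triv G) = 1 := by
  have h := S.fix_eq (triv G)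
  rw [sum_val_triv, triv_apply] at h
  have : ((fix D s (triv G) : ℕ) : ℂ) = ((1 : ℕ) : ℂ) :=
    mul_left_cancel₀ (Nat.cast_ne_zero.2 hp.out.ne_zero) (by rw [h]; push_cast; ring)
  exact_mod_cast this

theorem fix_p {χ : IrrCharacter G} (hχ : χ ∈ C.Xp) : fix D s χ = n + 1 := by
  have h := S.fix_eq χ
  rw [C.sum_val_p hχ, irr_one_eq, C.deg_p χ hχ] at h
  have : ((fix D s χ : ℕ) : ℂ) = ((n + 1 : ℕ) : ℂ) :=
    mul_left_cancel₀ (Nat.cast_ne_zero.2 hp.out.ne_zero) (by rw [h]; push_cast; ring)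
  exact_mod_cast this

theorem fix_m {χ : IrrCharacter G} (hχ : χ ∈ C.Xm) : fix D s χ = 0 := by
  have h := S.fix_eq χ
  have hd : ((charDegree (χ : G → ℂ) : ℕ) : ℂ) + 1 = (p : ℂ) := by exact_mod_cast C.deg_m χ hχ
  rw [C.sum_val_m hχ, irr_one_eq] at h
  have : ((fix D s χ : ℕ) : ℂ) = ((0 : ℕ) : ℂ) :=
    mul_left_cancel₀ (Nat.cast_ne_zero.2 hp.out.ne_zero) (by rw [h]; push_cast; linear_combination hd)
  exact_mod_cast this

theorem fix_O {χ : IrrCharacter G} (hχ : χ ∈ C.O) : charDegree (χ : G → ℂ) = p * fix D s χ := by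
  have h := S.fix_eq χ
  rw [C.sum_val_O hχ, irr_one_eq, add_zero] at h
  exact_mod_cast h.symm

theorem fix_Y {η : IrrCharacter G} (hη : η ∈ C.Y) :
    (p : ℤ) * fix D s η = (C.e : ℤ) + (q : ℤ) * C.A := by
  have h := S.fix_eq η
  rw [C.sum_Y η hη, irr_one_eq, C.deg_Y η hη] at h
  exact_mod_cast h

theorem fix_Y_eq {η η' : IrrCharacter G} (hη : η ∈ C.Y) (hη' : η' ∈ C.Y) : fix D s η = fix D s η' := by
  have h := (C.fix_Y S hη).trans (C.fix_Y S hη').symm
  exact_mod_cast mul_left_cancel₀ (show (p : ℤ) ≠ 0 by exact_mod_cast hp.out.ne_zero) h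

theorem phi_Y_eq {η η' : IrrCharacter G} (hη : η ∈ C.Y) (hη' : η' ∈ C.Y) (h : Subgroup.zpowers s) :
    phi D s η h = phi D s η' h := by
  by_cases h1 : h = 1
  · rw [h1, S.phi_one_eq, S.phi_one_eq, C.fix_Y_eq S hη hη']
  · rw [S.phi_apply η h1, S.phi_apply η' h1]
    exact C.agree η hη η' hη' _ (S.regular h.2)

/-- The minus characters vanish on the deflation. -/
theorem phi_m {χ : IrrCharacter G} (hχ : χ ∈ C.Xm) (h : Subgroup.zpowers s) : phi D s χ h = 0 := by
  rw [S.phi_eq]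
  refine Finset.sum_eq_zero fun μ _ => ?_
  have h0 : coef D s χ μ = 0 := (Finset.sum_eq_zero_iff.1 (C.fix_m S hχ)) μ (Finset.mem_univ _)
  rw [h0, Nat.cast_zero, zero_mul]

theorem not_dvd_e : ¬ p ∣ C.e := by
  obtain ⟨η, hη⟩ : C.Y.Nonempty := Finset.card_pos.1 (by rw [C.card_Y]; have := C.two_le_t; omega)
  intro hd
  have h := C.fix_Y S hη
  have h1 : (p : ℤ) ∣ (q : ℤ) * C.A := by
    obtain ⟨c, hc⟩ := hd
    exact ⟨(fix D s η : ℤ) - c, by rw [hc] at h; push_cast at h; linear_combination -h⟩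
  have hq : (p : ℤ) ∣ (q : ℤ) := by
    rcases C.sgn_A with hA | hA <;> rw [hA] at h1 <;> simpa using h1
  have := Nat.le_of_dvd (by have := S.two_le_q; omega) (Int.natCast_dvd_natCast.1 hq)
  have := S.q_lt
  omega

theorem e_dvd : C.e ∣ q * (1 + n * p) := by
  obtain ⟨η, hη⟩ : C.Y.Nonempty := Finset.card_pos.1 (by rw [C.card_Y]; have := C.two_le_t; omega)
  have hd := S.deg_dvd η (by rw [C.deg_Y η hη]; exact C.not_dvd_e S)
  rwa [C.deg_Y η hη] at hd

theorem five_le_p : 5 ≤ p := by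
  have h1 := Nat.mul_le_mul S.two_le_q C.two_le_t
  have h2 := S.hqt
  omega

/-- The relation at the identity. -/
theorem rel_one {η : IrrCharacter G} (hη : η ∈ C.Y) :
    1 + (C.Xp.card : ℤ) * (1 + n * p) + C.A * C.e = (C.Xm.card : ℤ) * ((p : ℤ) - 1) := by
  have h := C.rel η hη 1 Setting.regular_one
  rw [Finset.sum_congr rfl (s₁ := C.Xp) (g := fun _ => ((1 + n * p : ℕ) : ℂ)) fun χ hχ => by
      rw [irr_one_eq, C.deg_p χ hχ],
    Finset.sum_congr rfl (s₁ := C.Xm) (g := fun _ => (p : ℂ) - 1) fun χ hχ => by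
      rw [irr_one_eq]
      have hd : ((charDegree (χ : G → ℂ) : ℕ) : ℂ) + 1 = (p : ℂ) := by exact_mod_cast C.deg_m χ hχ
      linear_combination hd,
    Finset.sum_const, Finset.sum_const, nsmul_eq_mul, nsmul_eq_mul, irr_one_eq η, C.deg_Y η hη] at h
  have h' : (((1 + (C.Xp.card : ℤ) * (1 + n * p) + C.A * C.e) : ℤ) : ℂ)
      = (((C.Xm.card : ℤ) * ((p : ℤ) - 1) : ℤ) : ℂ) := by
    push_cast at h ⊢
    linear_combination h
  exact_mod_cast h'

theorem exists_m : C.Xm.Nonempty := by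
  obtain ⟨η, hη⟩ : C.Y.Nonempty := Finset.card_pos.1 (by rw [C.card_Y]; have := C.two_le_t; omega)
  rw [← Finset.card_pos]
  by_contra hc
  have hb : C.Xm.card = 0 := by omega
  have h := C.rel_one S hη
  rw [hb, Nat.cast_zero, zero_mul] at h
  have he : 0 < C.e := C.deg_Y η hη ▸ charDegree_pos η
  have hn := S.one_le_n
  have hp5 := C.five_le_p S
  have hX : (2 : ℤ) ≤ 1 + (n : ℤ) * p := by
    have : 1 * 1 ≤ n * p := Nat.mul_le_mul hn (by omega)
    exact_mod_cast (show 2 ≤ 1 + n * p by omega)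
  rcases C.sgn_A with hA | hA <;> rw [hA] at h
  · nlinarith
  have hq1 : (C.Xp.card : ℤ) = (q : ℤ) - 1 := by have := C.card_X; omega
  have hq2 : (2 : ℤ) ≤ q := by exact_mod_cast S.two_le_q
  obtain ⟨g, hg⟩ := C.e_dvd S
  have hg' : (q : ℤ) * (1 + n * p) = (C.e : ℤ) * g := by exact_mod_cast hg
  rw [hq1] at h
  rcases le_or_gt g 1 with h1 | h1
  · have hg1 : (g : ℤ) ≤ 1 := by exact_mod_cast h1
    nlinarith
  · have hg1 : (2 : ℤ) ≤ g := by exact_mod_cast h1
    nlinarith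

theorem even_t : Even t := by
  obtain ⟨χ, hχ⟩ := C.exists_m S
  exact S.even_t χ (C.deg_m χ hχ)

set_option maxHeartbeats 1000000 in
/-- The negative sign leaves only the order of `PSL(2, p)`. -/
theorem of_neg (hA : C.A = -1) : t = 2 ∧ n = 1 := by
  obtain ⟨η, hη⟩ : C.Y.Nonempty := Finset.card_pos.1 (by rw [C.card_Y]; have := C.two_le_t; omega)
  have hp5 : (5 : ℤ) ≤ p := by exact_mod_cast C.five_le_p S
  have hq2 : (2 : ℤ) ≤ q := by exact_mod_cast S.two_le_q
  have ht2 : (2 : ℤ) ≤ t := by exact_mod_cast C.two_le_t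
  have hn1 : (1 : ℤ) ≤ n := by exact_mod_cast S.one_le_n
  have hfY := C.fix_Y S hη
  rw [hA] at hfY
  obtain ⟨g, hg⟩ := C.e_dvd S
  have hg0 : 0 < g := by
    by_contra hc
    obtain rfl : g = 0 := by omega
    rw [mul_zero] at hg
    rcases Nat.mul_eq_zero.1 hg with h | h
    · omega
    · omega
  have hrel := C.rel_one S hη
  rw [hA] at hrel
  obtain ⟨hw, -⟩ := exceptional_neg hp5 hq2 ht2 S.hqt' hn1 S.notRep (a := (C.Xp.card : ℤ))
    (b := (C.Xm.card : ℤ)) (Nat.cast_nonneg _) (by exact_mod_cast Finset.card_pos.2 (C.exists_m S))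
    (by have := C.card_X; omega) (Nat.cast_nonneg (fix D s η)) (e := (C.e : ℤ)) (by linear_combination -hfY)
    (g := (g : ℤ)) (by exact_mod_cast hg0) (by rw [mul_comm]; exact_mod_cast hg.symm)
    (by linear_combination hrel)
  rw [hw, mul_zero] at hfY
  have he : (C.e : ℤ) = q := by linear_combination -hfY
  -- the square of an exceptional character
  set ψ : G → ℂ := fun g => (η : G → ℂ) g * conj ((η : G → ℂ) g) with hψ
  have hψc : IsCharacter G ψ := IsCharacter.mul (isCharacter_irr η) (IsCharacter.conj' (isCharacter_irr η))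
  choose m hm using fun χ : IrrCharacter G => IsCharacter.classInner_nat hψc (isCharacter_irr χ)
  have hexp : ∀ g, ψ g = ∑ χ : IrrCharacter G, (m χ : ℂ) * (χ : G → ℂ) g := fun g => by
    have h := congrFun (IsClassFunction.eq_sum_irr (IsCharacter.isClassFunction hψc)) g
    simp only [Finset.sum_apply, Pi.smul_apply, smul_eq_mul, hm] at h
    exact h
  have hm1 : m (triv G) = 1 := by
    have h : classInner ψ (triv G : G → ℂ) = classInner (η : G → ℂ) (η : G → ℂ) := by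
      simp only [Cfsg.classInner, hψ, triv_apply, map_one, mul_one]
    rw [hm, CfsgLib.Char.classInner_irr_self η.2] at h
    exact_mod_cast h
  -- two equations
  set v : IrrCharacter G → ℂ := fun χ => ∑ a ∈ Finset.univ.erase (0 : ZMod p), (χ : G → ℂ) (D.x ^ a.val) with hv
  have h1 : ∑ χ, (m χ : ℂ) * v χ = (q : ℂ) * ((p : ℂ) - q) := by
    rw [← C.sq_Y η hη]
    simp only [hv, Finset.mul_sum]
    rw [Finset.sum_comm]
    exact Finset.sum_congr rfl fun a _ => (hexp _).symm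
  have h2 : ∑ χ, (m χ : ℂ) * (fix D s χ : ℂ) = (q : ℂ) := by
    refine mul_left_cancel₀ (Nat.cast_ne_zero.2 hp.out.ne_zero : (p : ℂ) ≠ 0) ?_
    rw [Finset.mul_sum, Finset.sum_congr rfl (g := fun χ : IrrCharacter G =>
      (m χ : ℂ) * (χ : G → ℂ) 1 + (m χ : ℂ) * v χ) fun χ _ => by
      rw [← mul_add, ← S.fix_eq χ]; ring, Finset.sum_add_distrib, h1, ← hexp 1]
    have he' : (C.e : ℂ) = (q : ℂ) := by exact_mod_cast he
    simp only [hψ, irr_one_eq η, C.deg_Y η hη, map_natCast, he']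
    ring
  set c := ∑ χ ∈ C.Xp, m χ with hc
  set d := ∑ χ ∈ C.Xm, m χ with hd
  set c' := ∑ χ ∈ C.Y, m χ with hc'
  have h1' : ((p : ℂ) - 1) * (1 + (c : ℂ) - d) - (q : ℂ) * c' = (q : ℂ) * ((p : ℂ) - q) := by
    rw [← h1, C.sum_split, Finset.sum_congr rfl (s₁ := C.Xp) fun χ hχ => by
        rw [show v χ = (p : ℂ) - 1 from C.sum_val_p hχ],
      Finset.sum_congr rfl (s₁ := C.Xm) fun χ hχ => by rw [show v χ = 1 - (p : ℂ) from C.sum_val_m hχ],
      Finset.sum_congr rfl (s₁ := C.Y) fun χ hχ => by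
        rw [show v χ = (q : ℂ) * (C.A : ℂ) from C.sum_Y χ hχ],
      Finset.sum_eq_zero (s := C.O) fun χ hχ => by rw [show v χ = 0 from C.sum_val_O hχ, mul_zero],
      ← Finset.sum_mul, ← Finset.sum_mul, ← Finset.sum_mul, show v (triv G) = (p : ℂ) - 1 from sum_val_triv, hm1, hA,
      hc, hd, hc']
    push_cast
    ring
  have h2' : 1 + c * (n + 1) ≤ q := by
    have h : ∑ χ, m χ * fix D s χ = q := by exact_mod_cast h2
    rw [C.sum_split, hm1, fix_triv S, Finset.sum_congr rfl (s₁ := C.Xp) fun χ hχ => by rw [C.fix_p S hχ],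
      ← Finset.sum_mul, ← hc] at h
    omega
  have h1Z : ((p : ℤ) - 1) * (1 + (c : ℤ) - d) - (q : ℤ) * c' = (q : ℤ) * ((p : ℤ) - q) := by exact_mod_cast h1'
  have hle : (p : ℤ) - q ≤ t * (1 + (c : ℤ)) := by
    rw [← S.hqt'] at h1Z
    refine le_of_mul_le_mul_left ?_ (show (0 : ℤ) < q by omega)
    have : (0 : ℤ) ≤ (q : ℤ) * t * d := by positivity
    nlinarith
  have h3 : ((t : ℤ) - 1) * ((q : ℤ) - 1) ≤ t * c := by have := S.hqt'; linarith
  have h4 : (c : ℤ) * (n + 1) ≤ (q : ℤ) - 1 := by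
    have : (1 : ℤ) + c * (n + 1) ≤ q := by exact_mod_cast h2'
    linarith
  have h5 : ((t : ℤ) - 1) * ((n : ℤ) + 1) ≤ t := by
    refine le_of_mul_le_mul_right ?_ (show (0 : ℤ) < q - 1 by omega)
    have h6 := mul_le_mul_of_nonneg_right h3 (show (0 : ℤ) ≤ (n : ℤ) + 1 by omega)
    have h7 := mul_le_mul_of_nonneg_left h4 (show (0 : ℤ) ≤ (t : ℤ) by omega)
    linarith
  constructor <;> nlinarith

end Config

end CfsgLib.Char.FewSylow
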